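import Cfsg.Agent.Screen.BrauerP.Core
import Cfsg.Agent.Core.Cores
import Cfsg.Agent.S0243
import Cfsg.Agent.Linear.SL2Facts

/-!
Passage to the quotient by the `p'`-core.
-/

set_option autoImplicit false
set_option linter.unusedSectionVars false
set_option linter.style.haveILetI false

namespace Cfsg.Agent.Screen.BrauerP

open Cfsg Cfsg.Agent

universe u

variable {G : Type u} [Group G] [Finite G] {p : ℕ} [hp : Fact p.Prime]

theorem perfect_quotient (hperf : commutator G = ⊤) (K : Subgroup G) [K.Normal] :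
    commutator (G ⧸ K) = ⊤ := by
  rw [commutator_def, ← Subgroup.map_top_of_surjective _ (QuotientGroup.mk'_surjective K),
    ← Subgroup.map_commutator, ← commutator_def, hperf]

/-- The number of Sylow subgroups. -/
theorem card_sylow_eq (P : Sylow p G) :
    Nat.card (Sylow p G) = (Subgroup.normalizer ((P : Subgroup G) : Set G)).index :=
  P.card_eq_index_normalizer

/-- The image of the Sylow subgroup and the number of its conjugates. -/
theorem quotient_sylow (P : Sylow p G) (hP : Nat.card P = p) (K : Subgroup G) [K.Normal]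
    (hK : ¬ p ∣ Nat.card K) :
    ∃ Q : Sylow p (G ⧸ K), Nat.card Q = p ∧
      (K ⊔ Subgroup.normalizer ((P : Subgroup G) : Set G)) ≤
        (Subgroup.normalizer ((Q : Subgroup (G ⧸ K)) : Set (G ⧸ K))).comap (QuotientGroup.mk' K) ∧
      Nat.card (Sylow p (G ⧸ K)) ∣ Nat.card (Sylow p G) := by
  set f := QuotientGroup.mk' K with hf
  set Q := P.mapSurjective (QuotientGroup.mk'_surjective K) with hQ
  have hQc : (Q : Subgroup (G ⧸ K)) = (P : Subgroup G).map f := Sylow.coe_mapSurjective _ P
  have hPcard : Nat.card (P : Subgroup G) = p := hP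
  have hQp : Nat.card Q = p := by
    show Nat.card (Q : Subgroup (G ⧸ K)) = p
    rw [hQc]
    have h := Subgroup.card_map_dvd (P : Subgroup G) f
    rw [hPcard] at h
    refine ((Nat.dvd_prime hp.out).1 h).resolve_left fun h1 => hK ?_
    have hle : (P : Subgroup G) ≤ K := by
      rw [Subgroup.card_eq_one, Subgroup.map_eq_bot_iff, hf, QuotientGroup.ker_mk'] at h1
      exact h1
    exact hPcard ▸ Subgroup.card_dvd_of_le hle
  have hle : K ⊔ Subgroup.normalizer ((P : Subgroup G) : Set G) ≤
      (Subgroup.normalizer ((Q : Subgroup (G ⧸ K)) : Set (G ⧸ K))).comap f := by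
    refine sup_le (fun k hk => ?_) ?_
    · rw [Subgroup.mem_comap, hf, QuotientGroup.mk'_apply, (QuotientGroup.eq_one_iff k).2 hk]
      exact one_mem _
    · rw [← Subgroup.map_le_iff_le_comap, hQc]
      exact Subgroup.le_normalizer_map f
  refine ⟨Q, hQp, hle, ?_⟩
  rw [card_sylow_eq P, card_sylow_eq Q,
    ← Subgroup.index_comap_of_surjective (f := f) _ (QuotientGroup.mk'_surjective K)]
  exact Subgroup.index_dvd_of_le (le_trans le_sup_right hle)

theorem succ_le_card_sylow (hperf : commutator G = ⊤) (P : Sylow p G) (hP : Nat.card P = p) :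
    p + 1 ≤ Nat.card (Sylow p G) := by
  haveI := Fintype.ofFinite G
  have h := card_sylow_modEq_one p G
  rw [Nat.ModEq, Nat.mod_eq_of_lt hp.out.one_lt] at h
  have h1 := Nat.div_add_mod (Nat.card (Sylow p G)) p
  rcases Nat.eq_zero_or_pos (Nat.card (Sylow p G) / p) with h0 | h0
  · exfalso
    refine one_lt_sylow_count hperf P hP ?_
    rw [← Subgroup.normalizer_eq_top_iff, ← Subgroup.index_eq_one, ← card_sylow_eq P]
    rw [h0, mul_zero] at h1
    omega
  · have : p ≤ p * (Nat.card (Sylow p G) / p) := Nat.le_mul_of_pos_right p h0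
    omega

/-- A normal `p'`-subgroup not centralised by the Sylow subgroup forces many Sylow subgroups. -/
theorem sylow_bound (hperf : commutator G = ⊤) (P : Sylow p G) (hP : Nat.card P = p)
    (K : Subgroup G) [K.Normal] (hK : ¬ p ∣ Nat.card K)
    (hnc : ¬ K ≤ Subgroup.centralizer ((P : Subgroup G) : Set G)) :
    (p + 1) * (p + 1) ≤ Nat.card (Sylow p G) := by
  obtain ⟨Q, hQ, hle, -⟩ := quotient_sylow P hP K hK
  set NP := Subgroup.normalizer ((P : Subgroup G) : Set G) with hNP
  have h1 : Nat.card (Sylow p (G ⧸ K)) ≤ (K ⊔ NP).index := by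
    rw [card_sylow_eq Q,
      ← Subgroup.index_comap_of_surjective (f := QuotientGroup.mk' K) _
        (QuotientGroup.mk'_surjective K)]
    exact Subgroup.index_antitone hle
  have h2 : NP.relIndex K ≤ NP.relIndex (K ⊔ NP) :=
    Subgroup.relIndex_le_of_le_right le_sup_left Subgroup.index_ne_zero_of_finite
  -- the fixed points of `P` on `K`
  have hinf : K ⊓ (P : Subgroup G) = ⊥ := by
    rw [Subgroup.eq_bot_iff_forall]
    intro y hy
    by_contra hy1
    have h := Subgroup.orderOf_dvd_natCard _ hy.2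
    rw [show Nat.card (P : Subgroup G) = p from hP] at h
    have h' := ((Nat.dvd_prime hp.out).1 h).resolve_left fun h0 => hy1 (orderOf_eq_one_iff.1 h0)
    exact hK (h' ▸ Subgroup.orderOf_dvd_natCard _ hy.1)
  have hfix : NP ⊓ K = Subgroup.centralizer ((P : Subgroup G) : Set G) ⊓ K := by
    refine le_antisymm (fun k hk => ⟨?_, hk.2⟩) (inf_le_inf_right _ (Subgroup.centralizer_le_normalizer _))
    refine Subgroup.mem_centralizer_iff.2 fun y hy => ?_
    have h : k * y * k⁻¹ * y⁻¹ ∈ K ⊓ (P : Subgroup G) := by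
      refine ⟨?_, mul_mem ((Subgroup.mem_normalizer_iff.1 hk.1 y).1 hy) ((P : Subgroup G).inv_mem hy)⟩
      rw [show k * y * k⁻¹ * y⁻¹ = k * (y * k⁻¹ * y⁻¹) by group]
      exact mul_mem hk.2 (‹K.Normal›.conj_mem _ (K.inv_mem hk.2) y)
    rw [hinf, Subgroup.mem_bot] at h
    calc y * k = (k * y * k⁻¹ * y⁻¹) * (y * k) := by rw [h, one_mul]
      _ = k * y := by group
  letI : MulAction (P : Subgroup G) K := MulAction.compHom K
    ((MulAut.conjNormal (H := K)).comp (P : Subgroup G).subtype)
  have hsmul : ∀ (y : (P : Subgroup G)) (k : K), ((y • k : K) : G) = (y : G) * k * (y : G)⁻¹ :=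
    fun y k => MulAut.conjNormal_apply _ _
  have hfp : Nat.card (MulAction.fixedPoints (P : Subgroup G) K) =
      Nat.card (Subgroup.centralizer ((P : Subgroup G) : Set G) ⊓ K : Subgroup G) := by
    refine Nat.card_congr
      { toFun := fun k => ⟨(k : K), ?_, (k : K).2⟩
        invFun := fun k => ⟨⟨k, k.2.2⟩, fun y => ?_⟩
        left_inv := fun k => rfl
        right_inv := fun k => rfl }
    · refine Subgroup.mem_centralizer_iff.2 fun y hy => ?_
      have h := congrArg (fun k : K => (k : G)) (k.2 ⟨y, hy⟩)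
      simp only [hsmul] at h
      exact mul_inv_eq_iff_eq_mul.1 h
    · refine Subtype.ext ?_
      rw [hsmul, mul_inv_eq_iff_eq_mul]
      exact Subgroup.mem_centralizer_iff.1 k.2.1 y y.2
  have hmod := (P.2.card_modEq_card_fixedPoints (K : Subgroup G))
  set C := Subgroup.centralizer ((P : Subgroup G) : Set G) ⊓ K with hC
  have hrel : Nat.card C * NP.relIndex K = Nat.card K := by
    rw [← Subgroup.inf_relIndex_right, hfix]
    have h := Subgroup.relIndex_mul_relIndex ⊥ C K bot_le inf_le_right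
    simpa [Subgroup.relIndex_bot_left] using h
  have hr : p + 1 ≤ NP.relIndex K := by
    set r := NP.relIndex K
    rw [hfp, ← hrel] at hmod
    have hpC : ¬ p ∣ Nat.card C := fun h => hK (h.trans (Subgroup.card_dvd_of_le inf_le_right))
    have hr1 : r % p = 1 := by
      have h : Nat.card C * r ≡ Nat.card C * 1 [MOD p] := by rwa [mul_one]
      have h' := Nat.ModEq.cancel_left_of_coprime
        (show Nat.gcd p (Nat.card C) = 1 from hp.out.coprime_iff_not_dvd.2 hpC) h
      rw [h', Nat.mod_eq_of_lt hp.out.one_lt]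
    have hne : r ≠ 1 := fun h => hnc fun k hk => by
      rw [Subgroup.relIndex_eq_one] at h
      have : k ∈ NP ⊓ K := ⟨h hk, hk⟩
      rw [hfix] at this
      exact this.1
    have h1 := Nat.div_add_mod r p
    rcases Nat.eq_zero_or_pos (r / p) with h0 | h0
    · rw [h0, mul_zero] at h1; omega
    · have : p ≤ p * (r / p) := Nat.le_mul_of_pos_right p h0
      omega
  rw [card_sylow_eq P, ← hNP,
    ← Subgroup.relIndex_mul_index (le_sup_right : NP ≤ K ⊔ NP)]
  exact Nat.mul_le_mul (hr.trans h2)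
    ((succ_le_card_sylow (perfect_quotient hperf K) Q hQ).trans h1)

/-- The core theorem for the quotient by the `p'`-core. -/
theorem core_quotient (hperf : commutator G = ⊤) (P : Sylow p G) (hP : Nat.card P = p)
    (hF : ¬ Formula p (Nat.card (Sylow p G))) :
    (3 < p ∧ Nonempty (G ⧸ pPrimeCore p G ≃* Matrix.ProjectiveSpecialLinearGroup (Fin 2) (ZMod p))) ∨
      ∃ (a : ℕ) (F : Type) (_ : Field F) (_ : Fintype F), p = 2 ^ a + 1 ∧ 3 < p ∧
        Fintype.card F = 2 ^ a ∧
        Nonempty (G ⧸ pPrimeCore p G ≃* Matrix.SpecialLinearGroup (Fin 2) F) := by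
  obtain ⟨Q, hQ, -, hdvd⟩ := quotient_sylow P hP (pPrimeCore p G) (Core.not_dvd_card_pPrimeCore p G)
  haveI := Fintype.ofFinite (G ⧸ pPrimeCore p G)
  refine core (perfect_quotient hperf _) Q hQ (fun K hKn hKp => ?_) fun h =>
    hF (h.mono hdvd Nat.card_pos)
  rw [eq_bot_iff, ← Core.pPrimeCore_quotient_pPrimeCore p G]
  exact Core.le_pPrimeCore hKn (hp.out.coprime_iff_not_dvd.2 hKp).symm

theorem two_mul_card_psl :
    p ≠ 2 → 2 * Nat.card (Matrix.ProjectiveSpecialLinearGroup (Fin 2) (ZMod p)) = p * (p ^ 2 - 1) := by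
  intro h2
  have h := S0243.result (ZMod.card p) 2 le_rfl
  have hodd := (hp.out.eq_two_or_odd).resolve_left h2
  have hg : Nat.gcd 2 (p - 1) = 2 := Nat.gcd_eq_left (by omega)
  rw [hg, Fin.prod_univ_two] at h
  simp only [Fin.val_zero, Fin.val_one, pow_zero, pow_one] at h
  have hp2 := hp.out.two_le
  refine Nat.eq_of_mul_eq_mul_left (show 0 < p - 1 by omega) ?_
  rw [mul_left_comm, h, show p ^ 2 - p = p * (p - 1) by rw [pow_two, Nat.mul_sub, mul_one]]
  ring

theorem card_sl2_even {F : Type} [Field F] [Fintype F] {a : ℕ} (ha : 1 ≤ a)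
    (hF : Fintype.card F = 2 ^ a) :
    Nat.card (Matrix.SpecialLinearGroup (Fin 2) F) = 2 ^ a * ((2 ^ a) ^ 2 - 1) ∧
      Nonempty (Matrix.SpecialLinearGroup (Fin 2) F ≃* Matrix.ProjectiveSpecialLinearGroup (Fin 2) F) := by
  have h2 : (2 : F) = 0 := by
    obtain ⟨q, hq⟩ := CharP.exists F
    haveI := hq
    haveI : Fact q.Prime := ⟨(CharP.char_is_prime_or_zero F q).resolve_right
      (CharP.char_ne_zero_of_finite F q)⟩
    obtain ⟨k, hk, hk'⟩ := FiniteField.card F q
    have h3 : q ∣ 2 ^ a := by rw [← hF, hk']; exact dvd_pow_self q k.ne_zero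
    have h4 := (Nat.prime_dvd_prime_iff_eq (Fact.out : q.Prime) Nat.prime_two).1
      ((Fact.out : q.Prime).dvd_of_dvd_pow h3)
    subst h4
    exact_mod_cast CharP.cast_eq_zero F 2
  have hc := Linear.center_SL2_eq_bot (F := F) h2
  let e : Matrix.SpecialLinearGroup (Fin 2) F ≃* Matrix.ProjectiveSpecialLinearGroup (Fin 2) F :=
    ((QuotientGroup.quotientMulEquivOfEq hc).trans QuotientGroup.quotientBot).symm
  refine ⟨?_, ⟨e⟩⟩
  rw [Nat.card_congr e.toEquiv]
  have h := S0243.result hF 2 le_rfl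
  have h4 : 2 ≤ 2 ^ a := by
    calc 2 = 2 ^ 1 := rfl
      _ ≤ 2 ^ a := Nat.pow_le_pow_right (by norm_num) ha
  have hev : 2 ^ a % 2 = 0 := Nat.mod_eq_zero_of_dvd (dvd_pow_self 2 (by omega)) |>.trans rfl
  have hg : Nat.gcd 2 (2 ^ a - 1) = 1 := Nat.prime_two.coprime_iff_not_dvd.2 (by omega)
  rw [hg, one_mul, Fin.prod_univ_two] at h
  simp only [Fin.val_zero, Fin.val_one, pow_zero, pow_one] at h
  set q := 2 ^ a
  refine Nat.eq_of_mul_eq_mul_left (show 0 < q - 1 by omega) ?_
  rw [h, show q ^ 2 - q = q * (q - 1) by rw [pow_two, Nat.mul_sub, mul_one]]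
  ring

end Cfsg.Agent.Screen.BrauerP
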