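import Cfsg.Prelude.Def_Perm
import Mathlib

/-!
A perfect group of semi-affine maps of a finite field is trivial.
-/

set_option autoImplicit false
set_option linter.unusedSectionVars false
set_option linter.style.haveILetI false

namespace Cfsg.Agent.Screen.BrauerP

open Cfsg
open scoped commutatorElement

variable {F : Type*} [Field F]

/-- The coordinates of a semi-affine map are unique. -/
theorem semiaffine_unique {a a' : Fˣ} {b b' : F} {φ φ' : F ≃+* F}
    (h : ∀ x, (a : F) * φ x + b = (a' : F) * φ' x + b') : a = a' ∧ b = b' ∧ φ = φ' := by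
  have hb : b = b' := by simpa using h 0
  have ha : a = a' := Units.ext (by have h1 := h 1; simp [hb] at h1; exact h1)
  subst ha hb
  exact ⟨rfl, rfl, RingEquiv.ext fun x => mul_left_cancel₀ a.ne_zero (add_right_cancel (h x))⟩

theorem ringEquiv_comm [Finite F] (φ ψ : F ≃+* F) (x : F) : φ (ψ x) = ψ (φ x) := by
  haveI := Fintype.ofFinite F
  obtain ⟨q, hq⟩ := CharP.exists F
  haveI := hq
  haveI : Fact q.Prime := ⟨(CharP.char_is_prime_or_zero F q).resolve_right
    (CharP.char_ne_zero_of_finite F q)⟩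
  letI := ZMod.algebra F q
  have hlift : ∀ φ : F ≃+* F, ∀ r : ZMod q, φ (algebraMap (ZMod q) F r) = algebraMap (ZMod q) F r :=
    fun φ r => congrFun (congrArg DFunLike.coe
      (RingHom.ext_zmod (φ.toRingHom.comp (algebraMap (ZMod q) F)) (algebraMap (ZMod q) F))) r
  let Φ : Gal(F/ZMod q) := AlgEquiv.ofRingEquiv (f := φ) (hlift φ)
  let Ψ : Gal(F/ZMod q) := AlgEquiv.ofRingEquiv (f := ψ) (hlift ψ)
  haveI : IsMulCommutative Gal(F/ZMod q) := IsCyclic.isMulCommutative
  have h := DFunLike.congr_fun (mul_comm' Φ Ψ) x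
  exact h

/-- A perfect group embedded in a semi-affine group is trivial. -/
theorem subsingleton_of_semiaffine {G : Type*} [Group G] [Finite F] (hperf : commutator G = ⊤)
    (f : G →* Equiv.Perm F) (hinj : Function.Injective f)
    (hf : ∀ g, f g ∈ semiaffineGroup F) : Subsingleton G := by
  have key : ∀ g h : G, ∀ x, f ⁅g, h⁆ (f h (f g x)) = f g (f h x) := fun g h x => by
    rw [← Equiv.Perm.mul_apply, ← map_mul, ← Equiv.Perm.mul_apply, ← map_mul,
      ← Equiv.Perm.mul_apply, ← map_mul]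
    congr 2
    rw [commutatorElement_def]; group
  have hcl : ∀ S : Subgroup G, (∀ g h : G, ⁅g, h⁆ ∈ S) → ∀ g, g ∈ S := fun S hS g => by
    have : commutator G ≤ S := by
      rw [commutator_def]
      exact Subgroup.commutator_le.2 fun g _ h _ => hS g h
    exact this (hperf ▸ Subgroup.mem_top g)
  -- the field automorphisms are trivial
  let S1 : Subgroup G :=
    { carrier := {g | ∃ a : Fˣ, ∃ b : F, ∀ x, f g x = (a : F) * x + b}
      one_mem' := ⟨1, 0, fun x => by simp⟩
      mul_mem' := by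
        rintro g h ⟨a, b, hg⟩ ⟨c, d, hh⟩
        refine ⟨a * c, (a : F) * d + b, fun x => ?_⟩
        rw [map_mul, Equiv.Perm.mul_apply, hh, hg, Units.val_mul]
        ring
      inv_mem' := by
        rintro g ⟨a, b, hg⟩
        refine ⟨a⁻¹, -(((a⁻¹ : Fˣ) : F) * b), fun x => ?_⟩
        apply (f g).injective
        rw [map_inv, Equiv.Perm.inv_def, Equiv.apply_symm_apply, hg, mul_add, mul_neg, ← mul_assoc,
          Units.mul_inv, one_mul, ← mul_assoc, Units.mul_inv, one_mul, neg_add_cancel_right] }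
  have h1 : ∀ g, g ∈ S1 := hcl S1 fun g h => by
    obtain ⟨a, b, φ, hg⟩ := hf g
    obtain ⟨c, d, ψ, hh⟩ := hf h
    obtain ⟨k, l, χ, hk⟩ := hf ⁅g, h⁆
    have he : ∀ x, ((k * Units.map (χ : F →* F) c * Units.map (χ : F →* F) (Units.map (ψ : F →* F) a) : Fˣ) : F) *
        (φ.trans (ψ.trans χ)) x + ((k : F) * χ ((c : F) * ψ b + d) + l) =
        ((a * Units.map (φ : F →* F) c : Fˣ) : F) * (ψ.trans φ) x + ((a : F) * φ d + b) := fun x => by
      have h0 := key g h x
      rw [hg x, hh, hk, hh x, hg] at h0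
      simp only [map_add, map_mul] at h0 ⊢
      simp only [Units.val_mul, Units.coe_map, MonoidHom.coe_coe, RingEquiv.coe_trans,
        Function.comp_apply]
      linear_combination h0
    obtain ⟨-, -, h3⟩ := semiaffine_unique he
    have hχ : ∀ y, χ y = y := fun y => by
      obtain ⟨x, rfl⟩ : ∃ x, ψ (φ x) = y := ⟨φ.symm (ψ.symm y), by simp⟩
      rw [show χ (ψ (φ x)) = φ (ψ x) from RingEquiv.congr_fun h3 x, ringEquiv_comm φ ψ x]
    exact ⟨k, l, fun x => by rw [hk, hχ]⟩
  let S2 : Subgroup G :=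
    { carrier := {g | ∃ b : F, ∀ x, f g x = x + b}
      one_mem' := ⟨0, fun x => by simp⟩
      mul_mem' := by
        rintro g h ⟨b, hg⟩ ⟨d, hh⟩
        refine ⟨d + b, fun x => ?_⟩
        rw [map_mul, Equiv.Perm.mul_apply, hh, hg, add_assoc]
      inv_mem' := by
        rintro g ⟨b, hg⟩
        refine ⟨-b, fun x => ?_⟩
        apply (f g).injective
        rw [map_inv, Equiv.Perm.inv_def, Equiv.apply_symm_apply, hg, neg_add_cancel_right] }
  have h2 : ∀ g, g ∈ S2 := hcl S2 fun g h => by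
    obtain ⟨a, b, hg⟩ := h1 g
    obtain ⟨c, d, hh⟩ := h1 h
    obtain ⟨k, l, hk⟩ := h1 ⁅g, h⁆
    have he : ∀ x, ((k * c * a : Fˣ) : F) * (RingEquiv.refl F) x + ((k : F) * ((c : F) * b + d) + l) =
        ((a * c : Fˣ) : F) * (RingEquiv.refl F) x + ((a : F) * d + b) := fun x => by
      have h0 := key g h x
      rw [hg x, hh, hk, hh x, hg] at h0
      simp only [Units.val_mul, RingEquiv.refl_apply]
      linear_combination h0
    obtain ⟨h3, -, -⟩ := semiaffine_unique he
    have hk1 : k = 1 := by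
      rw [mul_assoc, mul_comm c a] at h3
      exact mul_eq_right.1 h3
    exact ⟨l, fun x => by rw [hk, hk1, Units.val_one, one_mul]⟩
  have h3 : ∀ g, g ∈ (⊥ : Subgroup G) := hcl ⊥ fun g h => by
    obtain ⟨b, hg⟩ := h2 g
    obtain ⟨d, hh⟩ := h2 h
    rw [Subgroup.mem_bot, commutatorElement_eq_one_iff_mul_comm]
    refine hinj (Equiv.ext fun x => ?_)
    rw [map_mul, map_mul, Equiv.Perm.mul_apply, Equiv.Perm.mul_apply, hh x, hg x, hg, hh,
      add_right_comm]
  exact ⟨fun g h => (Subgroup.mem_bot.1 (h3 g)).trans (Subgroup.mem_bot.1 (h3 h)).symm⟩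

end Cfsg.Agent.Screen.BrauerP
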