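import Mathlib

/-!
The arithmetic condition on the number of Sylow subgroups of prime order.
-/

set_option autoImplicit false

namespace Cfsg.Agent.Screen.BrauerP

/-- The number `N` of Sylow subgroups has a divisor of `(p - 1) * N` congruent to one modulo `p`
strictly between `1` and `N`. -/
def Formula (p N : ℕ) : Prop := ∃ a, a % p = 1 ∧ 1 < a ∧ a < N ∧ a ∣ (p - 1) * N

variable {p N : ℕ}

theorem eq_one_or_eq (hp : p.Prime) (hN : N % p = 1) (hF : ¬ Formula p N) {a : ℕ}
    (ha : a % p = 1) (hd : a ∣ (p - 1) * N) : a = 1 ∨ a = N := by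
  have hp2 := hp.two_le
  rcases lt_trichotomy a N with h | h | h
  · left
    by_contra h1
    have ha0 : a ≠ 0 := fun e => by rw [e] at ha; simp at ha
    exact hF ⟨a, ha, by omega, h, hd⟩
  · exact Or.inr h
  · exfalso
    obtain ⟨q, hq⟩ := hd
    have hN0 : 0 < N := Nat.pos_of_ne_zero fun e => by rw [e] at hN; simp at hN
    have hq1 : q < p - 1 := by
      by_contra hle
      push Not at hle
      have : (p - 1) * N < a * q := lt_of_lt_of_le (Nat.mul_lt_mul_of_pos_left h (by omega))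
        (by rw [mul_comm a q]; exact Nat.mul_le_mul_right a hle)
      omega
    have h1 : (((p - 1) * N : ℕ) : ZMod p) = ((a * q : ℕ) : ZMod p) := by rw [hq]
    have hmod : ∀ m : ℕ, m % p = 1 → (m : ZMod p) = 1 := fun m hm => by
      rw [← ZMod.natCast_mod, hm, Nat.cast_one]
    push_cast [hmod a ha, hmod N hN, Nat.cast_sub hp.one_le] at h1
    rw [ZMod.natCast_self, zero_sub, mul_one, one_mul] at h1
    have h2 : ((q + 1 : ℕ) : ZMod p) = 0 := by push_cast; rw [← h1, neg_add_cancel]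
    rw [ZMod.natCast_eq_zero_iff] at h2
    have := Nat.le_of_dvd (by omega) h2
    omega

theorem Formula.gives (hp : p.Prime) {n : ℕ} (hF : Formula p N) (hn : N = 1 + n * p) :
    ∃ h u : ℕ, 0 < h ∧ 0 < u ∧ n * (u + 1) = h * u * p + u ^ 2 + u + h := by
  obtain ⟨a, ha, ha1, haN, hd⟩ := hF
  have hp2 := hp.two_le
  obtain ⟨u, hu⟩ : ∃ u, a = 1 + u * p := ⟨a / p, by
    have := Nat.div_add_mod a p
    rw [mul_comm (a / p) p]; omega⟩
  have hu0 : 0 < u := Nat.pos_of_ne_zero fun e => by rw [e] at hu; omega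
  have hdN : a ∣ (u + 1) * N := by
    have h1 : a ∣ (u + 1) * N * p := by
      have h2 : (u + 1) * N * p = a * N + (p - 1) * N := by
        rw [hu]
        obtain ⟨k, rfl⟩ : ∃ k, p = k + 1 := ⟨p - 1, by omega⟩
        rw [Nat.add_sub_cancel]
        ring
      rw [h2]
      exact dvd_add (dvd_mul_right a N) hd
    refine (Nat.Coprime.dvd_mul_right ?_).1 h1
    exact (hp.coprime_iff_not_dvd.2 fun hdp => by
      rw [Nat.dvd_iff_mod_eq_zero] at hdp; omega).symm
  obtain ⟨j, hj⟩ := hdN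
  have hju : u + 1 < j := by
    by_contra hle
    push Not at hle
    have : a * j < (u + 1) * N :=
      lt_of_le_of_lt (Nat.mul_le_mul_left a hle)
        (by rw [mul_comm (u + 1) N]; exact Nat.mul_lt_mul_of_pos_right haN (by omega))
    omega
  obtain ⟨h, hh⟩ : ∃ h, j = u + 1 + h * p := by
    have h1 : (j : ZMod p) = ((u + 1 : ℕ) : ZMod p) := by
      have h2 := congrArg (fun m : ℕ => (m : ZMod p)) hj
      rw [hu, hn] at h2
      push_cast at h2
      rw [ZMod.natCast_self] at h2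
      push_cast
      linear_combination -h2
    rw [ZMod.natCast_eq_natCast_iff'] at h1
    obtain ⟨h, hh⟩ : p ∣ j - (u + 1) := (Nat.modEq_iff_dvd' hju.le).1 h1.symm
    exact ⟨h, by rw [mul_comm h p]; omega⟩
  refine ⟨h, u, Nat.pos_of_ne_zero fun e => by rw [e] at hh; omega, hu0, ?_⟩
  have h3 : (u + 1) * (1 + n * p) = (1 + u * p) * (u + 1 + h * p) := by rw [← hn, ← hu, ← hh, hj]
  refine Nat.eq_of_mul_eq_mul_right hp.pos ?_
  nlinarith [h3]

theorem Formula.bound (hp : p.Prime) (hF : Formula p N) (hN : N % p = 1) :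
    (p + 1) * (p + 2) ≤ 2 * N := by
  obtain ⟨n, hn⟩ : ∃ n, N = 1 + n * p := ⟨N / p, by
    have := Nat.div_add_mod N p
    rw [mul_comm (N / p) p]; omega⟩
  obtain ⟨h, u, hh, hu, he⟩ := hF.gives hp hn
  have h1 : h * u * p ≥ u * p := Nat.mul_le_mul_right p (Nat.le_mul_of_pos_left u hh)
  have h2 : p + 3 ≤ 2 * n := by
    have h3 : (p + 3) * (u + 1) ≤ 2 * n * (u + 1) := by
      nlinarith [Nat.mul_le_mul_left p hu, Nat.mul_le_mul_left u hu]
    exact Nat.le_of_mul_le_mul_right h3 (by omega)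
  rw [hn]
  nlinarith

theorem Formula.mono {N' : ℕ} (hF : Formula p N) (hd : N ∣ N') (h0 : 0 < N') : Formula p N' := by
  obtain ⟨a, ha, ha1, haN, hda⟩ := hF
  exact ⟨a, ha, ha1, lt_of_lt_of_le haN (Nat.le_of_dvd h0 hd),
    hda.trans (Nat.mul_dvd_mul_left _ hd)⟩

end Cfsg.Agent.Screen.BrauerP
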