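import Cfsg.Agent.Chars2.DefectOneApps
import Cfsg.Agent.DegreeGraph.AbelianNormal

/-!
The principal block of a group with a Sylow subgroup of odd prime order, in the form used to
bound the number of Sylow subgroups. When the exceptional family has one member it is chosen to
be a non-principal character of positive sign.
-/

set_option autoImplicit false
set_option linter.unusedSectionVars false
set_option linter.style.haveILetI false

namespace Cfsg.Agent.Screen.BrauerP

open Cfsg Cfsg.Agent Cfsg.Agent.Blocks Cfsg.Agent.BlockChar Cfsg.Agent.Chars2.Cyc Function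

universe u

variable {G : Type u} [Group G] [Fintype G]

/-- The data of the principal block used below. -/
structure PData (p : ℕ) (x : G) where
  /-- The inertial index. -/
  e : ℕ
  /-- The number of exceptional characters. -/
  t : ℕ
  /-- The ordinary characters. -/
  X : Finset (IrrCharacter G)
  /-- The exceptional family. -/
  Y : Finset (IrrCharacter G)
  /-- The signs. -/
  ε : IrrCharacter G → ℤ
  /-- The sign of the exceptional family. -/
  W : ℤ
  mul_et : e * t = p - 1
  relIndex : (Subgroup.centralizer ({x} : Set G)).relIndex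
    (Subgroup.normalizer ((Subgroup.zpowers x : Subgroup G) : Set G)) = e
  one_mem : oneChar G ∈ X
  one_sign : ε (oneChar G) = 1
  one_notMem : oneChar G ∉ Y
  disj : Disjoint X Y
  card_X : X.card = e
  card_Y : Y.card = t
  sign : ∀ χ ∈ X, ε χ = 1 ∨ ε χ = -1
  sign_W : W = 1 ∨ W = -1
  t_one : t = 1 → W = 1
  X_value : ∀ χ ∈ X, ∀ y ∈ Subgroup.zpowers x, y ≠ 1 → ∀ c ∈ Subgroup.centralizer ({x} : Set G),
    ¬ p ∣ orderOf c → (χ : G → ℂ) (y * c) = (ε χ : ℂ)
  Y_value : ∀ θ ∈ Y, ∀ y ∈ Subgroup.zpowers x, y ≠ 1 → ∀ c ∈ Subgroup.centralizer ({x} : Set G),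
    ¬ p ∣ orderOf c → (θ : G → ℂ) (y * c) = (θ : G → ℂ) y
  Y_sum : ∀ y ∈ Subgroup.zpowers x, y ≠ 1 → ∑ θ ∈ Y, (θ : G → ℂ) y = (W : ℂ)
  Y_sumP : ∀ θ ∈ Y, ∑ i ∈ Finset.Ico 1 p, (θ : G → ℂ) (x ^ i) = (e : ℂ) * (W : ℂ)
  X_deg : ∀ χ ∈ X, (charDegree (χ : G → ℂ) : ℤ) ≡ ε χ [ZMOD p]
  Y_deg : ∀ θ ∈ Y, (charDegree (θ : G → ℂ) : ℤ) ≡ -((e : ℤ) * W) [ZMOD p]
  Y_reg : ∀ θ ∈ Y, ∀ θ' ∈ Y, ∀ g : G, ¬ p ∣ orderOf g → (θ : G → ℂ) g = (θ' : G → ℂ) g
  relation : ∀ g : G, ¬ p ∣ orderOf g → ∀ θ ∈ Y,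
    (∑ χ ∈ X, (ε χ : ℂ) * (χ : G → ℂ) g) + (W : ℂ) * (θ : G → ℂ) g = 0

theorem exists_pdata {p : ℕ} [hp : Fact p.Prime] (hodd : p ≠ 2) (P : Sylow p G)
    (hP : Nat.card P = p) :
    ∃ x : G, orderOf x = p ∧ (P : Subgroup G) = Subgroup.zpowers x ∧
      Nonempty (PData p x) := by
  classical
  obtain ⟨x, hx, hPx, hdiv, hsq, hC⟩ := exists_sylow_gen p P hP
  refine ⟨x, hx, hPx, ?_⟩
  haveI := NeZero.of_pos hp.out.pos
  obtain ⟨M, hMmax, hpM⟩ := DegreeGraph.exists_isMaximal_mem p
  haveI := hMmax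
  obtain ⟨K, σ, S⟩ := exists_once hpM hdiv hsq hx
  haveI : Fintype (Subgroup.centralizer ({x} : Set G)) := Fintype.ofFinite _
  set C := Subgroup.centralizer ({x} : Set G) with hCdef
  have hB : IsPBlock M (principalBlock M G) := isPBlock_principal
  have hd : 0 < blockDefect p (principalBlock M G) := by
    rw [blockDefect_principal, S.vG]; exact one_pos
  obtain ⟨b, hb⟩ := S.exists_induced hB hd
  have hbp : ∀ b, IsInducedBlock M C b (principalBlock M G) → b = principalBlock M C := fun b hb =>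
    (third_main C hpM ⟨_, hb⟩).1 hb
  obtain rfl := hbp b hb
  have hθ : oneChar C ∈ principalBlock M C := one_mem_principal
  have hθx : ((oneChar C : IrrCharacter C) : C → ℂ) ⟨x, S.mem⟩ = (oneChar C : C → ℂ) 1 := rfl
  have hT : ∀ g : G, g ∈ Subgroup.normalizer ((Subgroup.zpowers x : Subgroup G) : Set G) ↔
      g ∈ Subgroup.normalizer ((Subgroup.zpowers x : Subgroup G) : Set G) ∧
      ∀ c c' : C, (c' : G) = g * c * g⁻¹ →
        ((oneChar C : IrrCharacter C) : C → ℂ) c' = (oneChar C : C → ℂ) c :=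
    fun g => ⟨fun h => ⟨h, fun _ _ _ => rfl⟩, fun h => h.1⟩
  have hns : (blockFinset M C).filter (fun b => IsInducedBlock M C b (principalBlock M G)) =
      {principalBlock M C} := by
    ext b
    simp only [Finset.mem_filter, Finset.mem_singleton, mem_blockFinset]
    exact ⟨fun h => hbp b h.2, fun h => h ▸ ⟨hb.1, hb⟩⟩
  have hone : charDegree ((oneChar C : IrrCharacter C) : C → ℂ) = 1 := by
    simp [coe_oneChar, charDegree]
  set B := principalBlock M G with hBdef
  obtain ⟨O⟩ : Nonempty (OneShape M p x σ (principalBlock M G) (principalBlock M C) 1) := by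
    have h := S.exists_shape hd hb hθ
    rwa [hns, Finset.card_singleton, hone, mul_one] at h
  have hidx := S.relIndex_inertia hb hθ hθx hT O.t_dvd O.period
  have hp1 : 0 < p - 1 := by have := hp.out.two_le; omega
  set f := gal (G := G) σ with hf
  -- values on the section
  choose θf hθf1 hθf2 using fun b : {b : Set (IrrCharacter C) // IsPBlock M b} =>
    S.exists_trivial b.2
  have hval : ∀ χ ∈ B, ∀ (j : ℕ) (c : G), c ∈ C → ¬ p ∣ orderOf c →
      (χ : G → ℂ) (x ^ K ^ j * c) = dB x (principalBlock M C) (f^[j] χ) := by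
    intro χ hχ j c hc hcp
    have hcp' : ¬ p ∣ orderOf (⟨c, hc⟩ : C) := by rwa [← Subgroup.orderOf_coe]
    have h1 : (χ : G → ℂ) (x ^ K ^ j * c) = (f^[j] χ : G → ℂ) (x * c) := by
      have h := S.gal_value χ j (x * c)
      rw [h, show x * c = x ^ 1 * c by rw [pow_one],
        S.mul_pow_reg (c := (⟨c, hc⟩ : C)) hcp', one_mul]
    have hv := value_section S hB ((S.iterate_mem_block hB j).2 hχ) (s := (⟨c, hc⟩ : C)) hcp'
      (fun b => if h : IsPBlock M b then θf ⟨b, h⟩ else oneChar C)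
      (fun b h => by simp only [dif_pos h]; exact ⟨hθf1 ⟨b, h⟩, hθf2 ⟨b, h⟩⟩)
    rw [h1, hv, hns, Finset.sum_singleton, dif_pos hb.1,
      (S.block_loc hb.1 hθ hθx).2.2 _ (hθf1 ⟨_, hb.1⟩) (hθf2 ⟨_, hb.1⟩)]
    exact mul_one _
  -- the members of `B` and their images of the orbit
  have hYorb : ∀ θ ∈ O.Y, ∀ F : IrrCharacter G → ℂ,
      ∑ j ∈ Finset.range O.t, F (f^[j] θ) = ∑ ψ ∈ O.Y.toFinite.toFinset, F ψ := by
    intro θ hθ F
    have himg : (Finset.range O.t).image (fun j => f^[j] θ) = O.Y.toFinite.toFinset := by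
      ext ψ
      simp only [Finset.mem_image, Finset.mem_range, Set.Finite.mem_toFinset]
      constructor
      · rintro ⟨j, -, rfl⟩
        exact (O.orbit θ hθ _).1 ⟨j, rfl⟩
      · intro hψ
        obtain ⟨r, hr⟩ := (O.orbit θ hθ ψ).2 hψ
        refine ⟨r % O.t, Nat.mod_lt _ O.t_pos, ?_⟩
        rw [← hr]
        have hper : IsPeriodicPt f O.t θ := O.fixed_t θ (O.Y_sub hθ)
        exact hper.iterate_mod_apply r
    rw [← himg, Finset.sum_image]
    refine Finset.injOn_of_card_image_eq ?_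
    rw [himg, Finset.card_range, ← Set.ncard_eq_toFinset_card, ← Nat.card_coe_set_eq, O.card_Y]
  have hYval : ∀ θ ∈ O.Y, ∀ y ∈ Subgroup.zpowers x, y ≠ 1 →
      ∑ ψ ∈ O.Y.toFinite.toFinset, (ψ : G → ℂ) y = (O.W θ : ℂ) := by
    intro θ hθ y hy hy1
    obtain ⟨r, -, rfl⟩ := S.exists_pow_of_mem hy hy1
    have h1 : ∀ ψ ∈ O.Y.toFinite.toFinset, (ψ : G → ℂ) (x ^ K ^ r) =
        dB x (principalBlock M C) (f^[r] ψ) := fun ψ hψ => by
      have h := hval ψ (O.Y_sub ((Set.Finite.mem_toFinset _).1 hψ)) r 1 (one_mem _)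
        (by rw [orderOf_one]; exact hp.out.not_dvd_one)
      rwa [mul_one] at h
    rw [Finset.sum_congr rfl h1, ← hYorb θ hθ]
    have hθ' : f^[r] θ ∈ O.Y := (O.orbit θ hθ _).1 ⟨r, rfl⟩
    have h2 := O.dB_Y _ hθ'
    rw [O.sign_Y _ hθ' θ hθ] at h2
    rw [← h2]
    refine Finset.sum_congr rfl fun j _ => ?_
    rw [← iterate_add_apply, ← iterate_add_apply, add_comm]
  have hYsumP : ∀ θ ∈ O.Y, ∑ i ∈ Finset.Ico 1 p, (θ : G → ℂ) (x ^ i) =
      (((p - 1) / O.t : ℕ) : ℂ) * (O.W θ : ℂ) := by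
    intro θ hθ
    have hsum : ∑ j ∈ Finset.range (p - 1), dB x (principalBlock M C) (f^[j] θ) =
        (((p - 1) / O.t : ℕ) : ℂ) * (O.W θ : ℂ) := by
      have h := sum_range_periodic (f := fun j => dB x (principalBlock M C) (f^[j] θ)) (a := O.t)
        (fun i => by rw [iterate_add_apply, O.fixed_t θ (O.Y_sub hθ)]) ((p - 1) / O.t)
      rw [Nat.div_mul_cancel O.t_dvd, O.dB_Y θ hθ, nsmul_eq_mul] at h
      exact h
    rw [← hsum]
    refine (Finset.sum_bij (fun j _ => K ^ j % p) (fun j _ => ?_) (fun j hj j' hj' h => ?_)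
      (fun i hi => ?_) fun j hj => ?_).symm
    · rw [Finset.mem_Ico]
      refine ⟨Nat.one_le_iff_ne_zero.2 fun h0 => ?_, Nat.mod_lt _ hp.out.pos⟩
      refine S.pow_ne_one j ?_
      rw [← pow_mod_orderOf, S.hx, h0, pow_zero]
    · have h1 : ((K : ℕ) : ZMod p) ^ j = ((K : ℕ) : ZMod p) ^ j' := by
        rw [← Nat.cast_pow, ← Nat.cast_pow, ZMod.natCast_eq_natCast_iff']
        exact h
      exact pow_injOn_Iio_orderOf (x := ((K : ℕ) : ZMod p))
        (by rw [S.ord]; exact Finset.mem_range.1 hj) (by rw [S.ord]; exact Finset.mem_range.1 hj') h1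
    · obtain ⟨h1, h2⟩ := Finset.mem_Ico.1 hi
      obtain ⟨r, hr, he⟩ := S.exists_pow_K (a := (i : ZMod p)) (fun h => by
        rw [ZMod.natCast_eq_zero_iff] at h
        have := Nat.le_of_dvd (by omega) h
        omega)
      refine ⟨r, Finset.mem_range.2 hr, ?_⟩
      have h3 : ((K ^ r : ℕ) : ZMod p) = (i : ZMod p) := by rw [Nat.cast_pow]; exact he
      rw [ZMod.natCast_eq_natCast_iff', Nat.mod_eq_of_lt h2] at h3
      exact h3
    · have h := hval θ (O.Y_sub hθ) j 1 (one_mem _) (by rw [orderOf_one]; exact hp.out.not_dvd_one)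
      rw [mul_one, ← pow_mod_orderOf, S.hx] at h
      exact h.symm
  have hXval : ∀ χ ∈ B, χ ∉ O.Y → ∀ y ∈ Subgroup.zpowers x, y ≠ 1 →
      ∀ c ∈ C, ¬ p ∣ orderOf c → (χ : G → ℂ) (y * c) = (O.W χ : ℂ) := by
    intro χ hχ hχY y hy hy1 c hc hcp
    obtain ⟨j, -, rfl⟩ := S.exists_pow_of_mem hy hy1
    rw [hval χ hχ j c hc hcp, iterate_fixed (O.fixed χ hχ hχY), O.dB_X χ hχ hχY]
  have hYv : ∀ θ ∈ O.Y, ∀ y ∈ Subgroup.zpowers x, y ≠ 1 → ∀ c ∈ C, ¬ p ∣ orderOf c →
      (θ : G → ℂ) (y * c) = (θ : G → ℂ) y := by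
    intro θ hθ y hy hy1 c hc hcp
    obtain ⟨j, -, rfl⟩ := S.exists_pow_of_mem hy hy1
    have h := hval θ (O.Y_sub hθ) j 1 (one_mem _) (by rw [orderOf_one]; exact hp.out.not_dvd_one)
    rw [mul_one] at h
    rw [hval θ (O.Y_sub hθ) j c hc hcp, h]
  have h1B : oneChar G ∈ B := one_mem_principal
  have het : (p - 1) / O.t * O.t = p - 1 := Nat.div_mul_cancel O.t_dvd
  by_cases ht : O.t = 1
  · -- all members of the block behave alike
    have he : (p - 1) / O.t = p - 1 := by rw [ht, Nat.div_one]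
    obtain ⟨y₁, hy₁⟩ := Set.ncard_eq_one.1 (by rw [← Nat.card_coe_set_eq, O.card_Y, ht] : O.Y.ncard = 1)
    have hy₁Y : y₁ ∈ O.Y := by rw [hy₁]; exact rfl
    have hYs : O.Y.toFinite.toFinset = {y₁} := by
      ext ψ; simp [hy₁]
    have hall : ∀ χ ∈ B, ∀ y ∈ Subgroup.zpowers x, y ≠ 1 → ∀ c ∈ C, ¬ p ∣ orderOf c →
        (χ : G → ℂ) (y * c) = (O.W χ : ℂ) := by
      intro χ hχ y hy hy1 c hc hcp
      by_cases hχY : χ ∈ O.Y
      · rw [hYv χ hχY y hy hy1 c hc hcp]
        have h := hYval χ hχY y hy hy1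
        rw [hYs, Finset.sum_singleton] at h
        rw [hy₁, Set.mem_singleton_iff] at hχY
        rw [hχY] at h ⊢
        exact h
      · exact hXval χ hχ hχY y hy hy1 c hc hcp
    have halldeg : ∀ χ ∈ B, (charDegree (χ : G → ℂ) : ℤ) ≡ O.W χ [ZMOD p] := by
      intro χ hχ
      by_cases hχY : χ ∈ O.Y
      · refine (O.degree_Y χ hχY).trans ?_
        rw [he, Nat.cast_one, mul_one, Int.modEq_iff_dvd, Nat.cast_sub hp.out.one_le, Nat.cast_one]
        exact ⟨O.W χ, by ring⟩
      · have h := O.degree_X χ hχ hχY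
        rwa [Nat.cast_one, one_mul] at h
    have hrel : ∀ g : G, ¬ p ∣ orderOf g →
        ∑ χ ∈ bf B, (O.W χ : ℂ) * (χ : G → ℂ) g = 0 := by
      intro g hg
      have h := O.relation g hg y₁ hy₁Y
      rw [finsum_mem_eq_toFinset_sum] at h
      rw [← Finset.sum_erase_add _ _ (mem_bf.2 (O.Y_sub hy₁Y))]
      refine Eq.trans ?_ h
      congr 1
      refine Finset.sum_congr ?_ fun _ _ => rfl
      ext χ
      simp [hy₁, and_comm]
    have hcardB : (bf B).card = p := by
      have h := Set.ncard_sdiff_add_ncard_of_subset O.Y_sub (Set.toFinite B)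
      rw [← Nat.card_coe_set_eq, ← Nat.card_coe_set_eq, ← Nat.card_coe_set_eq, O.card_X,
        O.card_Y, he, ht, Nat.card_coe_set_eq] at h
      rw [← Set.ncard_coe_finset, show ((bf B : Finset (IrrCharacter G)) : Set (IrrCharacter G)) = B
        from Set.ext fun χ => mem_bf]
      simp only [hBdef] at h ⊢
      omega
    have hW1 : O.W (oneChar G) = 1 := by
      have h := hall _ h1B x (Subgroup.mem_zpowers x)
        (fun h => hp.out.ne_one (by rw [← hx, h, orderOf_one])) 1 (one_mem _)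
        (by rw [orderOf_one]; exact hp.out.not_dvd_one)
      have h' : (1 : ℂ) = (O.W (oneChar G) : ℂ) := h
      exact_mod_cast h'.symm
    obtain ⟨θ₀, hθ₀B, hθ₀1, hθ₀W⟩ : ∃ θ₀ ∈ B, θ₀ ≠ oneChar G ∧ O.W θ₀ = 1 := by
      by_contra hno
      push Not at hno
      have hm : ∀ χ ∈ (bf B).erase (oneChar G), O.W χ = -1 := fun χ hχ => by
        obtain ⟨h1, h2⟩ := Finset.mem_erase.1 hχ
        exact (O.sign χ (mem_bf.1 h2)).resolve_left (hno χ (mem_bf.1 h2) h1)
      have h := hrel 1 (by rw [orderOf_one]; exact hp.out.not_dvd_one)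
      rw [← Finset.sum_erase_add _ _ (mem_bf.2 h1B), hW1,
        Finset.sum_congr rfl fun χ hχ => by rw [hm χ hχ, (Blocks.charDegree_eq χ.2).1]] at h
      have h1 : ((oneChar G : IrrCharacter G) : G → ℂ) 1 = 1 := rfl
      rw [h1] at h
      have hc : ∑ χ ∈ (bf B).erase (oneChar G), charDegree (χ : G → ℂ) = 1 := by
        apply Nat.cast_injective (R := ℂ)
        push_cast at h ⊢
        rw [← Finset.mul_sum] at h
        linear_combination -h
      have h2 : ((bf B).erase (oneChar G)).card ≤ 1 := by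
        rw [← hc, Finset.card_eq_sum_ones]
        exact Finset.sum_le_sum fun χ _ => (Blocks.charDegree_eq χ.2).2
      rw [Finset.card_erase_of_mem (mem_bf.2 h1B), hcardB] at h2
      have := hp.out.two_le
      omega
    exact ⟨
      { e := p - 1
        t := 1
        X := (bf B).erase θ₀
        Y := {θ₀}
        ε := O.W
        W := 1
        mul_et := mul_one _
        relIndex := by rw [hidx, he]
        one_mem := Finset.mem_erase.2 ⟨hθ₀1.symm, mem_bf.2 h1B⟩
        one_sign := hW1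
        one_notMem := fun h => hθ₀1 (Finset.mem_singleton.1 h).symm
        disj := Finset.disjoint_singleton_right.2 (Finset.notMem_erase θ₀ _)
        card_X := by rw [Finset.card_erase_of_mem (mem_bf.2 hθ₀B), hcardB]
        card_Y := Finset.card_singleton θ₀
        sign := fun χ hχ => O.sign χ (mem_bf.1 (Finset.mem_of_mem_erase hχ))
        sign_W := Or.inl rfl
        t_one := fun _ => rfl
        X_value := fun χ hχ => hall χ (mem_bf.1 (Finset.mem_of_mem_erase hχ))
        Y_value := fun θ hθ y hy hy1 c hc hcp => by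
          rw [Finset.mem_singleton.1 hθ, hall θ₀ hθ₀B y hy hy1 c hc hcp]
          have h := hall θ₀ hθ₀B y hy hy1 1 (one_mem _) (by rw [orderOf_one]; exact hp.out.not_dvd_one)
          rw [mul_one] at h
          exact h.symm
        Y_sum := fun y hy hy1 => by
          have h := hall θ₀ hθ₀B y hy hy1 1 (one_mem _) (by rw [orderOf_one]; exact hp.out.not_dvd_one)
          rw [mul_one, hθ₀W] at h
          rw [Finset.sum_singleton, h]
        Y_sumP := fun θ hθ => by
          rw [Finset.mem_singleton.1 hθ, Finset.sum_congr rfl (g := fun _ => (1 : ℂ)) fun i hi => ?_]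
          · simp
          · have hi' := Finset.mem_Ico.1 hi
            have h := hall θ₀ hθ₀B (x ^ i) (Subgroup.pow_mem _ (Subgroup.mem_zpowers x) i)
              (pow_ne_one_of_lt_orderOf (by omega) (by rw [hx]; exact hi'.2)) 1 (one_mem _)
              (by rw [orderOf_one]; exact hp.out.not_dvd_one)
            rw [mul_one, hθ₀W] at h
            simpa using h
        X_deg := fun χ hχ => halldeg χ (mem_bf.1 (Finset.mem_of_mem_erase hχ))
        Y_deg := fun θ hθ => by
          rw [Finset.mem_singleton.1 hθ]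
          refine (halldeg θ₀ hθ₀B).trans ?_
          rw [hθ₀W, mul_one, Int.modEq_iff_dvd, Nat.cast_sub hp.out.one_le, Nat.cast_one]
          exact ⟨-1, by ring⟩
        Y_reg := fun θ hθ θ' hθ' g _ => by
          rw [Finset.mem_singleton.1 hθ, Finset.mem_singleton.1 hθ']
        relation := fun g hg θ hθ => by
          rw [Finset.mem_singleton.1 hθ]
          have h := hrel g hg
          rw [← Finset.sum_erase_add _ _ (mem_bf.2 hθ₀B), hθ₀W] at h
          exact h }⟩
  · have h1Y : oneChar G ∉ O.Y := by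
      intro h
      have hfix : f (oneChar G) = oneChar G := Subtype.ext (funext fun g => by
        rw [hf, gal_apply]; exact map_one σ)
      have hsub : O.Y ⊆ {oneChar G} := fun ψ hψ => by
        obtain ⟨r, hr⟩ := (O.orbit _ h ψ).2 hψ
        rw [← hr, iterate_fixed hfix]; rfl
      have h' := Set.ncard_le_ncard hsub
      rw [Set.ncard_singleton, ← Nat.card_coe_set_eq, O.card_Y] at h'
      have := O.t_pos
      omega
    obtain ⟨θ₁, hθ₁⟩ : O.Y.Nonempty := Set.nonempty_of_ncard_ne_zero (by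
      rw [← Nat.card_coe_set_eq, O.card_Y]; exact O.t_pos.ne')
    exact ⟨
      { e := (p - 1) / O.t
        t := O.t
        X := (B \ O.Y).toFinite.toFinset
        Y := O.Y.toFinite.toFinset
        ε := O.W
        W := O.W θ₁
        mul_et := het
        relIndex := hidx
        one_mem := (Set.Finite.mem_toFinset _).2 ⟨h1B, h1Y⟩
        one_sign := by
          have h := hXval _ h1B h1Y x (Subgroup.mem_zpowers x)
            (fun h => hp.out.ne_one (by rw [← hx, h, orderOf_one])) 1 (one_mem _)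
            (by rw [orderOf_one]; exact hp.out.not_dvd_one)
          have h' : (1 : ℂ) = (O.W (oneChar G) : ℂ) := h
          exact_mod_cast h'.symm
        one_notMem := fun h => h1Y ((Set.Finite.mem_toFinset _).1 h)
        disj := Finset.disjoint_left.2 fun χ h h' =>
          ((Set.Finite.mem_toFinset _).1 h).2 ((Set.Finite.mem_toFinset _).1 h')
        card_X := by rw [← Set.ncard_eq_toFinset_card, ← Nat.card_coe_set_eq, O.card_X]
        card_Y := by rw [← Set.ncard_eq_toFinset_card, ← Nat.card_coe_set_eq, O.card_Y]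
        sign := fun χ hχ => O.sign χ ((Set.Finite.mem_toFinset _).1 hχ).1
        sign_W := O.sign θ₁ (O.Y_sub hθ₁)
        t_one := fun h => absurd h ht
        X_value := fun χ hχ => hXval χ ((Set.Finite.mem_toFinset _).1 hχ).1
          ((Set.Finite.mem_toFinset _).1 hχ).2
        Y_value := fun θ hθ => hYv θ ((Set.Finite.mem_toFinset _).1 hθ)
        Y_sum := fun y hy hy1 => hYval θ₁ hθ₁ y hy hy1
        Y_sumP := fun θ hθ => by
          rw [hYsumP θ ((Set.Finite.mem_toFinset _).1 hθ),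
            O.sign_Y θ ((Set.Finite.mem_toFinset _).1 hθ) θ₁ hθ₁]
        X_deg := fun χ hχ => by
          have h := O.degree_X χ ((Set.Finite.mem_toFinset _).1 hχ).1
            ((Set.Finite.mem_toFinset _).1 hχ).2
          rwa [Nat.cast_one, one_mul] at h
        Y_deg := fun θ hθ => by
          have h := O.degree_Y θ ((Set.Finite.mem_toFinset _).1 hθ)
          rwa [Nat.cast_one, mul_one, O.sign_Y θ ((Set.Finite.mem_toFinset _).1 hθ) θ₁ hθ₁] at h
        Y_reg := fun θ hθ θ' hθ' g hg => by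
          obtain ⟨r, rfl⟩ := (O.orbit θ ((Set.Finite.mem_toFinset _).1 hθ) θ').2
            ((Set.Finite.mem_toFinset _).1 hθ')
          exact (S.gal_reg θ r hg).symm
        relation := fun g hg θ hθ => by
          have h := O.relation g hg θ ((Set.Finite.mem_toFinset _).1 hθ)
          rw [finsum_mem_eq_finite_toFinset_sum _ (Set.toFinite _),
            O.sign_Y θ ((Set.Finite.mem_toFinset _).1 hθ) θ₁ hθ₁] at h
          exact h }⟩

end Cfsg.Agent.Screen.BrauerP
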