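import Cfsg.Agent.Chars.Orth
import Cfsg.Agent.Chars.Linear
import Cfsg.Agent.Chars.Eigen
import Cfsg.Agent.Blocks.Orth
import Mathlib.GroupTheory.NoncommCoprod

/-!
Small tools on multiplicities of constituents.
-/

set_option autoImplicit false
set_option linter.unusedSectionVars false
set_option linter.style.haveILetI false

namespace Cfsg.Agent.Screen.BrauerP

open Cfsg Cfsg.Agent
open scoped ComplexConjugate

universe u

variable {G : Type u} [Group G] [Fintype G]

theorem apply_one_eq_deg (χ : IrrCharacter G) :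
    (χ : G → ℂ) 1 = (charDegree (χ : G → ℂ) : ℂ) :=
  (Blocks.charDegree_eq χ.2).1

theorem deg_pos (χ : IrrCharacter G) : 0 < charDegree (χ : G → ℂ) :=
  (Blocks.charDegree_eq χ.2).2

/-- The chosen constituents with their multiplicities account for at most the degree. -/
theorem sum_mult_le {f : G → ℂ} (hf : IsCharacter G f) {d : ℕ} (hd : f 1 = d)
    (S : Finset (IrrCharacter G)) (m : IrrCharacter G → ℕ)
    (hm : ∀ ψ ∈ S, classInner f (ψ : G → ℂ) = m ψ) :
    ∑ ψ ∈ S, m ψ * charDegree (ψ : G → ℂ) ≤ d := by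
  obtain ⟨m', hm', hsum⟩ := Chars.exists_eq_sum_nsmul hf
  have h : d = ∑ ψ, m' ψ * charDegree (ψ : G → ℂ) := by
    have h1 := congrFun hsum 1
    rw [hd, Finset.sum_apply] at h1
    simp only [Pi.smul_apply, apply_one_eq_deg, nsmul_eq_mul] at h1
    exact_mod_cast h1
  rw [h]
  refine le_trans (le_of_eq (Finset.sum_congr rfl fun ψ hψ => ?_))
    (Finset.sum_le_sum_of_subset (Finset.subset_univ S))
  congr 1
  exact_mod_cast (hm ψ hψ).symm.trans (hm' ψ)

/-- A character having a set of constituents which exhausts its degree is their sum. -/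
theorem eq_sum_of_mult {f : G → ℂ} (hf : IsCharacter G f) (S : Finset (IrrCharacter G))
    (hne : ∀ ψ ∈ S, classInner f (ψ : G → ℂ) ≠ 0)
    (hd : f 1 = ((∑ ψ ∈ S, charDegree (ψ : G → ℂ) : ℕ) : ℂ)) :
    f = ∑ ψ ∈ S, (ψ : G → ℂ) := by
  classical
  obtain ⟨m, hm, hsum⟩ := Chars.exists_eq_sum_nsmul hf
  have h : ∑ ψ ∈ S, charDegree (ψ : G → ℂ) = ∑ ψ, m ψ * charDegree (ψ : G → ℂ) := by
    have h1 := congrFun hsum 1
    rw [hd, Finset.sum_apply] at h1
    simp only [Pi.smul_apply, apply_one_eq_deg, nsmul_eq_mul] at h1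
    exact_mod_cast h1
  have hm1 : ∀ ψ ∈ S, 1 ≤ m ψ := fun ψ hψ => Nat.one_le_iff_ne_zero.2 fun h0 =>
    hne ψ hψ (by rw [hm, h0, Nat.cast_zero])
  rw [← Finset.sum_add_sum_compl S (fun ψ => m ψ * charDegree (ψ : G → ℂ))] at h
  have h1 : ∑ ψ ∈ S, charDegree (ψ : G → ℂ) ≤ ∑ ψ ∈ S, m ψ * charDegree (ψ : G → ℂ) :=
    Finset.sum_le_sum fun ψ hψ => Nat.le_mul_of_pos_left _ (hm1 ψ hψ)
  have h2 : ∑ ψ ∈ Sᶜ, m ψ * charDegree (ψ : G → ℂ) = 0 := by omega
  have h3 : ∀ ψ ∈ S, m ψ = 1 := fun ψ hψ => by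
    have h4 := (Finset.sum_eq_sum_iff_of_le fun ψ hψ => Nat.le_mul_of_pos_left _ (hm1 ψ hψ)).1
      (by omega : ∑ ψ ∈ S, charDegree (ψ : G → ℂ) = ∑ ψ ∈ S, m ψ * charDegree (ψ : G → ℂ)) ψ hψ
    exact (Nat.mul_eq_right (deg_pos ψ).ne').1 h4.symm
  conv_lhs => rw [hsum, ← Finset.sum_add_sum_compl S]
  rw [Finset.sum_eq_zero (s := Sᶜ) fun ψ hψ => ?_, add_zero]
  · exact Finset.sum_congr rfl fun ψ hψ => by rw [h3 ψ hψ, one_smul]
  · have h4 := Finset.sum_eq_zero_iff.1 h2 ψ hψ
    rw [(mul_eq_zero.1 h4).resolve_right (deg_pos ψ).ne', zero_smul]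

theorem irr_apply_one_eq_one (hc : ∀ a b : G, a * b = b * a) (χ : IrrCharacter G) :
    (χ : G → ℂ) 1 = 1 :=
  Chars.irr_apply_one_of_comm hc χ.2

theorem card_irr_of_comm (hc : ∀ a b : G, a * b = b * a) :
    Nat.card (IrrCharacter G) = Nat.card G := by
  have h := Chars.sum_sq_apply_one (G := G)
  simp only [irr_apply_one_eq_one hc, one_pow, Finset.sum_const, Finset.card_univ, nsmul_eq_mul,
    mul_one] at h
  have h' : Fintype.card (IrrCharacter G) = Nat.card G := by exact_mod_cast h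
  rw [← h']
  simp only [Nat.card_eq_fintype_card]

/-- For a commutative group the norm of a character is at least its degree. -/
theorem le_norm_of_comm (hc : ∀ a b : G, a * b = b * a) {f : G → ℂ} (hf : IsCharacter G f)
    {d : ℕ} (hd : f 1 = d) : ∃ s : ℕ, classInner f f = s ∧ d ≤ s := by
  obtain ⟨m, hm, hsum⟩ := Chars.exists_eq_sum_nsmul hf
  refine ⟨∑ ψ, m ψ * m ψ, ?_, ?_⟩
  · rw [Chars.classInner_eq_sum (Chars.isClassFunction_of_isCharacter hf), Nat.cast_sum]
    refine Finset.sum_congr rfl fun ψ _ => ?_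
    rw [← Chars.classInner_conj_symm f, hm, map_natCast, Nat.cast_mul]
  · have h1 := congrFun hsum 1
    rw [hd, Finset.sum_apply] at h1
    simp only [Pi.smul_apply, irr_apply_one_eq_one hc, nsmul_eq_mul, mul_one] at h1
    have : d = ∑ ψ, m ψ := by exact_mod_cast h1
    rw [this]
    exact Finset.sum_le_sum fun ψ _ => Nat.le_mul_self _

/-- A character of degree below `p` whose values on the section of an element `x` of order `p`
do not depend on a commuting element `v` has `v` in its kernel. -/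
theorem apply_eq_of_section {p : ℕ} (hp : p.Prime) {χ : G → ℂ} (hχ : IsCharacter G χ) {d : ℕ}
    (hd : χ 1 = d) (hdp : d < p) {x v : G} (hx : orderOf x = p) (hxv : Commute x v)
    (hval : ∀ y ∈ Subgroup.zpowers x, y ≠ 1 → ∀ w ∈ Subgroup.zpowers v, χ (y * w) = χ y) :
    χ v = χ 1 := by
  classical
  set P := Subgroup.zpowers x
  set Q := Subgroup.zpowers v
  have hcomm : ∀ (y : P) (w : Q), Commute (P.subtype y) (Q.subtype w) := by
    rintro ⟨y, i, rfl⟩ ⟨w, j, rfl⟩
    exact (hxv.zpow_left i).zpow_right j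
  let φ : P × Q →* G := MonoidHom.noncommCoprod P.subtype Q.subtype hcomm
  let f : Q → ℂ := fun w => χ w
  have hf : IsCharacter Q f := Chars.isCharacter_restrict hχ Q
  have hQc : ∀ a b : Q, a * b = b * a := fun a b => mul_comm' a b
  obtain ⟨m, hm, hsum⟩ := Chars.exists_eq_sum_nsmul hf
  let one : IrrCharacter Q := ⟨fun _ => 1, Chars.isIrrCharacter_one⟩
  have hPcard : Nat.card P = p := by rw [Nat.card_zpowers, hx]
  have hmult : ∀ η : IrrCharacter Q, η ≠ one → p ∣ m η := by
    intro η hη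
    have hη' : IsCharacter (P × Q) (fun a => (η : Q → ℂ) a.2) :=
      Chars.isCharacter_comp (Chars.irr_isCharacter η) (MonoidHom.snd P Q)
    obtain ⟨k, hk⟩ := Chars.exists_classInner_eq_nat (Chars.isCharacter_comp hχ φ) hη'
    refine ⟨k, ?_⟩
    have h0 : ∑ w : Q, conj ((η : Q → ℂ) w) = 0 := by
      have h := Chars.classInner_irr_of_ne one.2 η.2 (fun h => hη (Subtype.ext h).symm)
      rw [Chars.classInner_def, mul_eq_zero] at h
      simpa [one] using h.resolve_left (inv_ne_zero (Chars.card_ne_zero (G := Q)))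
    have hs : ∑ a : P × Q, χ (φ a) * conj ((η : Q → ℂ) a.2) =
        ∑ w : Q, f w * conj ((η : Q → ℂ) w) := by
      rw [Fintype.sum_prod_type, Finset.sum_eq_single (1 : P)]
      · refine Finset.sum_congr rfl fun w _ => ?_
        congr 2
        simp [φ]
      · intro y _ hy
        rw [Finset.sum_congr rfl (g := fun w : Q => χ y * conj ((η : Q → ℂ) w)) fun w _ => ?_,
          ← Finset.mul_sum, h0, mul_zero]
        congr 1
        show χ ((y : G) * (w : G)) = χ y
        exact hval y y.2 (fun h => hy (Subtype.ext h)) w w.2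
      · intro h
        exact absurd (Finset.mem_univ _) h
    have h1 := hm η
    rw [Chars.classInner_def] at h1 hk
    simp only [Function.comp_apply] at hk
    rw [hs, Nat.card_prod, hPcard, Nat.cast_mul, mul_inv, mul_assoc, h1] at hk
    have hp0 : (p : ℂ) ≠ 0 := Nat.cast_ne_zero.2 hp.ne_zero
    field_simp at hk
    exact_mod_cast hk
  have hle : ∀ η : IrrCharacter Q, m η ≤ d := fun η => by
    have h := sum_mult_le hf (d := d) (by rw [← hd]; rfl) {η} m fun ψ _ => hm ψ
    rw [Finset.sum_singleton] at h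
    have hone : charDegree (η : Q → ℂ) = 1 := by
      have h2 := apply_one_eq_deg η
      rw [irr_apply_one_eq_one hQc η] at h2
      exact_mod_cast h2.symm
    rwa [hone, mul_one] at h
  have hzero : ∀ η : IrrCharacter Q, η ≠ one → m η = 0 := fun η hη =>
    Nat.eq_zero_of_dvd_of_lt (hmult η hη) (lt_of_le_of_lt (hle η) hdp)
  have hf' : f = m one • (one : Q → ℂ) := by
    rw [hsum, Finset.sum_eq_single one]
    · intro η _ hη
      rw [hzero η hη, zero_smul]
    · intro h; exact absurd (Finset.mem_univ _) h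
  have h1 := congrFun hf' ⟨v, Subgroup.mem_zpowers v⟩
  have h2 := congrFun hf' 1
  simp only [Pi.smul_apply, one, f, OneMemClass.coe_one] at h1 h2
  rw [h1, h2]

/-- A character vanishing at the generators of a cyclic subgroup of order four has even degree. -/
theorem two_dvd_of_order_four {χ : G → ℂ} (hχ : IsCharacter G χ) {d : ℕ} (hd : χ 1 = d)
    {g : G} (hg : orderOf g = 4) (h1 : χ g = 0) (h3 : χ (g ^ 3) = 0) : 2 ∣ d := by
  obtain ⟨n, ρ, rfl⟩ := hχ
  obtain ⟨z, hz, hc, -, -⟩ := Chars.exists_eigenvalues ρ g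
  have hsum : ∀ a b : ℂ, a * ∑ i, z i ^ 1 + b * ∑ i, z i ^ 3 = 0 := fun a b => by
    rw [← hc 1, ← hc 3, pow_one, h1, h3, mul_zero, mul_zero, add_zero]
  have hterm : ∀ i, ∃ k : ℕ, (2 : ℂ) + (1 - Complex.I) * z i ^ 1 + (1 + Complex.I) * z i ^ 3 =
      4 * k := by
    intro i
    have h4 : z i ^ 4 = 1 := by rw [← hg]; exact hz i
    have hfac : (z i - 1) * (z i + 1) * ((z i - Complex.I) * (z i + Complex.I)) = 0 := by
      linear_combination h4 + (1 - z i ^ 2) * Complex.I_sq
    simp only [mul_eq_zero, sub_eq_zero, add_eq_zero_iff_eq_neg] at hfac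
    rcases hfac with (h | h) | (h | h) <;> rw [h]
    · exact ⟨1, by ring_nf⟩
    · exact ⟨0, by push_cast; ring_nf⟩
    · exact ⟨1, by push_cast; ring_nf; simp [Complex.I_sq]; ring⟩
    · exact ⟨0, by push_cast; ring_nf; simp [Complex.I_sq]; ring⟩
  choose k hk using hterm
  have htot : (2 * d : ℂ) = 4 * ((∑ i, k i : ℕ) : ℂ) := by
    rw [Nat.cast_sum, Finset.mul_sum, ← Finset.sum_congr rfl fun i _ => hk i]
    rw [Finset.sum_add_distrib, Finset.sum_add_distrib, ← Finset.mul_sum, ← Finset.mul_sum,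
      add_assoc, hsum, add_zero, ← hd, Representation.char_one]
    simp [mul_comm]
  have : 2 * d = 4 * ∑ i, k i := by exact_mod_cast htot
  omega

/-- A character vanishing away from the identity of a cyclic subgroup has degree divisible by
its order. -/
theorem dvd_of_vanish {χ : G → ℂ} (hχ : IsCharacter G χ) {d : ℕ} (hd : χ 1 = d) (Q : Subgroup G)
    (hv : ∀ g ∈ Q, g ≠ 1 → χ g = 0) : Nat.card Q ∣ d := by
  classical
  obtain ⟨k, hk⟩ := Chars.exists_classInner_eq_nat (Chars.isCharacter_restrict hχ Q)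
    (Chars.isCharacter_one (G := Q))
  refine ⟨k, ?_⟩
  rw [Chars.classInner_def, Finset.sum_eq_single (1 : Q)] at hk
  · simp only [map_one, mul_one, OneMemClass.coe_one, hd] at hk
    have h0 := Chars.card_ne_zero (G := Q)
    field_simp at hk
    exact_mod_cast hk
  · intro q _ hq
    rw [hv q q.2 (fun h => hq (Subtype.ext h)), zero_mul]
  · intro h; exact absurd (Finset.mem_univ _) h

end Cfsg.Agent.Screen.BrauerP
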