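import Cfsg.Agent.Screen.BrauerP.Block
import Cfsg.Agent.Screen.BrauerP.Arith
import Cfsg.Agent.Screen.BrauerP.Tools
import Mathlib.GroupTheory.Transfer

/-!
The degrees in the principal block of a perfect group whose number of Sylow subgroups of prime
order avoids the arithmetic condition, and the triviality of the `p'`-part of the centralizer.
-/

set_option autoImplicit false
set_option linter.unusedSectionVars false
set_option linter.style.haveILetI false

namespace Cfsg.Agent.Screen.BrauerP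

open Cfsg Cfsg.Agent

universe u

variable {G : Type u} [Group G] [Fintype G] {p : ℕ} [hp : Fact p.Prime]

theorem eq_one_of_deg_one (hperf : commutator G = ⊤) (χ : IrrCharacter G)
    (h : charDegree (χ : G → ℂ) = 1) : χ = Blocks.oneChar G := by
  obtain ⟨φ, hφ⟩ := Chars.exists_hom_of_degree_one (Chars.irr_isCharacter χ)
    (by rw [apply_one_eq_deg, h, Nat.cast_one])
  refine Subtype.ext (funext fun g => ?_)
  have hk : g ∈ φ.ker := Abelianization.commutator_subset_ker φ (hperf ▸ Subgroup.mem_top g)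
  rw [hφ]
  simp only [MonoidHom.mem_ker.1 hk, Units.val_one]
  rfl

/-- Burnside's transfer: the automizer of a cyclic Sylow subgroup of a perfect group is
nontrivial. -/
theorem two_le_relIndex_of_perfect (hperf : commutator G = ⊤) (P : Sylow p G)
    (hP : Nat.card P = p) :
    2 ≤ (Subgroup.centralizer ((P : Subgroup G) : Set G)).relIndex
      (Subgroup.normalizer ((P : Subgroup G) : Set G)) := by
  haveI : IsCyclic (P : Subgroup G) := isCyclic_of_prime_card hP
  have h0 : (Subgroup.centralizer ((P : Subgroup G) : Set G)).relIndex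
      (Subgroup.normalizer ((P : Subgroup G) : Set G)) ≠ 0 := Subgroup.index_ne_zero_of_finite
  by_contra hlt
  have h1 : (Subgroup.centralizer ((P : Subgroup G) : Set G)).relIndex
      (Subgroup.normalizer ((P : Subgroup G) : Set G)) = 1 := by omega
  have hle := Subgroup.relIndex_eq_one.1 h1
  have hcomp := MonoidHom.ker_transferSylow_isComplement' P hle
  have hker : (MonoidHom.transferSylow P hle).ker = ⊤ := by
    rw [eq_top_iff, ← hperf, commutator_def, Subgroup.commutator_le]
    intro a _ b _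
    rw [MonoidHom.mem_ker, map_commutatorElement, commutatorElement_eq_one_iff_mul_comm]
    exact mul_comm' _ _
  rw [hker] at hcomp
  have h2 := hcomp.card_mul_card
  rw [Subgroup.card_top, hP] at h2
  exact hp.out.ne_one ((Nat.mul_eq_left Nat.card_pos.ne').1 h2)

variable {x : G}

namespace PData

variable (D : PData p x)
include D

theorem index_centralizer :
    (Subgroup.centralizer ({x} : Set G)).index =
      D.e * (Subgroup.normalizer ((Subgroup.zpowers x : Subgroup G) : Set G)).index := by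
  rw [← D.relIndex, Subgroup.relIndex_mul_index]
  rw [← Subgroup.centralizer_closure, ← Subgroup.zpowers_eq_closure]
  exact Subgroup.centralizer_le_normalizer _

theorem t_pos : 0 < D.t := by
  have := hp.out.two_le
  have h := D.mul_et
  rcases Nat.eq_zero_or_pos D.t with h0 | h0
  · rw [h0, mul_zero] at h; omega
  · exact h0

theorem e_pos : 0 < D.e := by
  have := hp.out.two_le
  have h := D.mul_et
  rcases Nat.eq_zero_or_pos D.e with h0 | h0
  · rw [h0, zero_mul] at h; omega
  · exact h0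

theorem exists_Y : ∃ θ, θ ∈ D.Y :=
  Finset.card_pos.1 (by rw [D.card_Y]; exact D.t_pos)

theorem deg_Y_eq {θ θ' : IrrCharacter G} (hθ : θ ∈ D.Y) (hθ' : θ' ∈ D.Y) :
    charDegree (θ : G → ℂ) = charDegree (θ' : G → ℂ) := by
  have h := D.Y_reg θ hθ θ' hθ' 1 (by rw [orderOf_one]; exact hp.out.not_dvd_one)
  rw [apply_one_eq_deg, apply_one_eq_deg] at h
  exact_mod_cast h

theorem deg_dvd_X (hx : orderOf x = p) {χ : IrrCharacter G} (hχ : χ ∈ D.X) :
    charDegree (χ : G → ℂ) ∣
      D.e * (Subgroup.normalizer ((Subgroup.zpowers x : Subgroup G) : Set G)).index := by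
  rw [← D.index_centralizer]
  have h := Chars.centralChar_isIntegral_irr χ.2 x
  have hv := D.X_value χ hχ x (Subgroup.mem_zpowers x)
    (fun h => hp.out.ne_one (by rw [← hx, h, orderOf_one])) 1 (Subgroup.one_mem _)
    (by rw [orderOf_one]; exact hp.out.not_dvd_one)
  rw [mul_one] at hv
  rw [hv, apply_one_eq_deg] at h
  refine Chars.dvd_of_isIntegral_div (deg_pos χ) ?_
  rcases D.sign χ hχ with h1 | h1 <;> rw [h1] at h
  · simpa using h
  · simpa [neg_div] using h.neg

theorem deg_dvd_Y (hx : orderOf x = p) {θ : IrrCharacter G} (hθ : θ ∈ D.Y) :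
    charDegree (θ : G → ℂ) ∣
      D.e * (Subgroup.normalizer ((Subgroup.zpowers x : Subgroup G) : Set G)).index := by
  rw [← D.index_centralizer]
  have h : IsIntegral ℤ (∑ θ' ∈ D.Y, ((Subgroup.centralizer ({x} : Set G)).index : ℂ) *
      (θ' : G → ℂ) x / (θ' : G → ℂ) 1) :=
    IsIntegral.sum _ fun θ' _ => Chars.centralChar_isIntegral_irr θ'.2 x
  rw [Finset.sum_congr rfl (g := fun θ' : IrrCharacter G =>
      ((Subgroup.centralizer ({x} : Set G)).index : ℂ) * (θ' : G → ℂ) x /
        (charDegree (θ : G → ℂ) : ℂ)) fun θ' hθ' => by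
      rw [apply_one_eq_deg, D.deg_Y_eq hθ' hθ]] at h
  rw [← Finset.sum_div, ← Finset.mul_sum, D.Y_sum x (Subgroup.mem_zpowers x)
    (fun h => hp.out.ne_one (by rw [← hx, h, orderOf_one]))] at h
  refine Chars.dvd_of_isIntegral_div (deg_pos θ) ?_
  rcases D.sign_W with h1 | h1 <;> rw [h1] at h
  · simpa using h
  · simpa [neg_div] using h.neg

end PData

/-- The two shapes of the principal block. -/
theorem degrees (hperf : commutator G = ⊤) (hx : orderOf x = p) (D : PData p x) (he2 : 2 ≤ D.e)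
    {n : ℕ} (hn1 : 1 ≤ n)
    (hn : (Subgroup.normalizer ((Subgroup.zpowers x : Subgroup G) : Set G)).index = 1 + n * p)
    (hF : ¬ Formula p (1 + n * p)) :
    ∃ Xp : Finset (IrrCharacter G), Xp ⊆ D.X ∧ Blocks.oneChar G ∉ Xp ∧
      (∀ ψ ∈ Xp, D.ε ψ = 1 ∧ charDegree (ψ : G → ℂ) = 1 + n * p) ∧
      ((D.W = 1 ∧ (n + 1) * (1 + D.t * Xp.card) + D.t = p - 1 ∧
          (∀ θ ∈ D.Y, D.t * charDegree (θ : G → ℂ) = 1 + n * p) ∧
          ∃ μ ∈ D.X, D.ε μ = -1 ∧ charDegree (μ : G → ℂ) < p) ∨
        (D.W = -1 ∧ 2 ≤ D.t ∧ Xp.card * (n + 1) + 1 = D.e ∧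
          ∀ θ ∈ D.Y, charDegree (θ : G → ℂ) = D.e)) := by
  classical
  have hp2 := hp.out.two_le
  set N := 1 + n * p with hNdef
  set N' := (Subgroup.normalizer ((Subgroup.zpowers x : Subgroup G) : Set G)).index
  have hNmod : N % p = 1 := by
    rw [hNdef, Nat.add_mul_mod_self_right, Nat.mod_eq_of_lt hp.out.one_lt]
  have hdvd : ∀ a, a ∣ D.e * N' → a ∣ (p - 1) * N := fun a ha =>
    ha.trans (by rw [hn, ← D.mul_et]; exact Nat.mul_dvd_mul_right (dvd_mul_right _ _) _)
  have het := D.mul_et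
  have hp1 : ((p - 1 : ℕ) : ℤ) = (p : ℤ) - 1 := by rw [Nat.cast_sub hp.out.one_le, Nat.cast_one]
  have hmod : ∀ a : ℕ, (a : ℤ) ≡ 1 [ZMOD p] → a % p = 1 := fun a ha => by
    have h : a ≡ 1 [MOD p] := by rw [← Int.natCast_modEq_iff]; simpa using ha
    rw [h, Nat.mod_eq_of_lt hp.out.one_lt]
  set Xp := D.X.filter fun χ => D.ε χ = 1 ∧ χ ≠ Blocks.oneChar G with hXp
  set Xm := D.X.filter fun χ => D.ε χ = -1 with hXm
  have hplus : ∀ ψ ∈ Xp, D.ε ψ = 1 ∧ charDegree (ψ : G → ℂ) = N := fun ψ hψ => by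
    obtain ⟨h1, h2, h3⟩ := Finset.mem_filter.1 hψ
    have hcong := D.X_deg ψ h1
    rw [h2] at hcong
    exact ⟨h2, (eq_one_or_eq hp.out hNmod hF (hmod _ hcong)
      (hdvd _ (D.deg_dvd_X hx h1))).resolve_left fun h => h3 (eq_one_of_deg_one hperf ψ h)⟩
  have hN1 : (N : ℤ) ≡ 1 [ZMOD p] := by
    rw [hNdef, Int.modEq_iff_dvd]; exact ⟨-(n : ℤ), by push_cast; ring⟩
  have hminus : ∀ b ∈ Xm, charDegree (b : G → ℂ) = p - 1 ∨
      charDegree (b : G → ℂ) = (p - 1) * N := fun b hb => by
    obtain ⟨h1, h2⟩ := Finset.mem_filter.1 hb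
    obtain ⟨q, hq⟩ := hdvd _ (D.deg_dvd_X hx h1)
    have hcong := D.X_deg b h1
    rw [h2] at hcong
    have hq1 : (q : ℤ) ≡ 1 [ZMOD p] := by
      have h3 : (((p - 1) * N : ℕ) : ℤ) = (charDegree (b : G → ℂ) : ℤ) * q := by
        exact_mod_cast congrArg (fun m : ℕ => (m : ℤ)) hq
      push_cast [hp1] at h3
      have h4 : ((p : ℤ) - 1) * N ≡ -1 [ZMOD p] := by
        have h5 : ((p : ℤ) - 1) ≡ -1 [ZMOD p] := by
          rw [Int.modEq_iff_dvd]; exact ⟨-1, by ring⟩
        simpa using h5.mul hN1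
      rw [h3] at h4
      have h6 := (hcong.mul_right q).symm.trans h4
      simpa using h6.neg
    rcases eq_one_or_eq hp.out hNmod hF (hmod _ hq1) (Dvd.intro_left _ hq.symm) with h | h
    · exact Or.inr (by rw [hq, h, mul_one])
    · refine Or.inl (Nat.eq_of_mul_eq_mul_right (show 0 < N by omega) ?_)
      rw [hq, h]
  obtain ⟨θ₀, hθ₀⟩ := D.exists_Y
  set d := charDegree (θ₀ : G → ℂ) with hd
  have hd0 : 0 < d := deg_pos θ₀
  -- the relation at the identity
  have hsplit : D.X = insert (Blocks.oneChar G) (Xp ∪ Xm) := by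
    ext χ
    simp only [Finset.mem_insert, Finset.mem_union, hXp, hXm, Finset.mem_filter]
    constructor
    · intro h
      by_cases h1 : χ = Blocks.oneChar G
      · exact Or.inl h1
      · rcases D.sign χ h with h2 | h2
        · exact Or.inr (Or.inl ⟨h, h2, h1⟩)
        · exact Or.inr (Or.inr ⟨h, h2⟩)
    · rintro (rfl | h | h)
      · exact D.one_mem
      · exact h.1
      · exact h.1
  have h1n : Blocks.oneChar G ∉ Xp ∪ Xm := by
    simp [hXp, hXm, D.one_sign]
  have hdisj : Disjoint Xp Xm := by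
    rw [Finset.disjoint_left]
    intro χ h h'
    rw [hXp, Finset.mem_filter] at h
    rw [hXm, Finset.mem_filter, h.2.1] at h'
    exact absurd h'.2 (by norm_num)
  have hcard : Xp.card + Xm.card + 1 = D.e := by
    rw [← D.card_X, hsplit, Finset.card_insert_of_notMem h1n, Finset.card_union_of_disjoint hdisj]
  have hrel : (1 : ℤ) + Xp.card * N + D.W * d = ∑ b ∈ Xm, (charDegree (b : G → ℂ) : ℤ) := by
    have h := D.relation 1 (by rw [orderOf_one]; exact hp.out.not_dvd_one) θ₀ hθ₀
    rw [hsplit, Finset.sum_insert h1n, Finset.sum_union hdisj,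
      Finset.sum_congr rfl (g := fun _ => ((N : ℕ) : ℂ)) fun ψ hψ => by
        rw [(hplus ψ hψ).1, apply_one_eq_deg, (hplus ψ hψ).2, Int.cast_one, one_mul],
      Finset.sum_const, nsmul_eq_mul, D.one_sign, apply_one_eq_deg θ₀,
      Finset.sum_congr rfl (g := fun b : IrrCharacter G => -((charDegree (b : G → ℂ) : ℂ)))
        fun b hb => by
          rw [(Finset.mem_filter.1 hb).2, apply_one_eq_deg]; push_cast; ring,
      Finset.sum_neg_distrib] at h
    have h1 : ((Blocks.oneChar G : IrrCharacter G) : G → ℂ) 1 = 1 := rfl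
    rw [h1] at h
    apply Int.cast_injective (α := ℂ)
    push_cast at h ⊢
    linear_combination h
  have hYd := D.Y_deg θ₀ hθ₀
  refine ⟨Xp, Finset.filter_subset _ _, fun h => h1n (Finset.mem_union_left _ h), hplus, ?_⟩
  rcases D.sign_W with hW | hW
  · left
    rw [hW, mul_one] at hYd
    have htd : D.t * d = N := by
      refine (eq_one_or_eq hp.out hNmod hF (hmod _ ?_) ?_).resolve_left fun h => ?_
      · push_cast
        refine ((hYd.mul_left (D.t : ℤ)).trans ?_)
        have h2 : (D.t : ℤ) * D.e = (p : ℤ) - 1 := by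
          rw [← hp1, ← het]; push_cast; ring
        rw [Int.modEq_iff_dvd]
        exact ⟨1, by linear_combination h2⟩
      · calc D.t * d ∣ D.t * (D.e * N') := Nat.mul_dvd_mul_left _ (D.deg_dvd_Y hx hθ₀)
          _ = (p - 1) * N := by rw [hn, ← het]; ring
      · exact D.one_notMem (eq_one_of_deg_one hperf θ₀ (mul_eq_one.1 h).2 ▸ hθ₀)
    have hdN : d ≤ N := by rw [← htd]; exact Nat.le_mul_of_pos_left _ D.t_pos
    have hsmall : ∀ b ∈ Xm, charDegree (b : G → ℂ) = p - 1 := by
      by_contra hno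
      push Not at hno
      obtain ⟨b, hb, hbne⟩ := hno
      have hb' := (hminus b hb).resolve_left hbne
      have hle : ((p - 1) * N : ℕ) ≤ 1 + Xp.card * N + d := by
        have h3 : (charDegree (b : G → ℂ) : ℤ) ≤ ∑ b ∈ Xm, (charDegree (b : G → ℂ) : ℤ) :=
          Finset.single_le_sum (f := fun b : IrrCharacter G => (charDegree (b : G → ℂ) : ℤ))
            (fun _ _ => Int.natCast_nonneg _) hb
        rw [← hrel, hW, one_mul, hb'] at h3
        exact_mod_cast h3
      have hm1 : 1 ≤ Xm.card := Finset.card_pos.2 ⟨b, hb⟩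
      have h4 : (Xp.card + 1) * N ≤ (p - 2) * N := by
        refine Nat.mul_le_mul_right N ?_
        have h5 : D.e ≤ p - 1 := by rw [← het]; exact Nat.le_mul_of_pos_right _ D.t_pos
        omega
      obtain ⟨k, hk⟩ : ∃ k, p = k + 2 := ⟨p - 2, by omega⟩
      rw [show p - 1 = k + 1 by omega] at hle
      rw [show p - 2 = k by omega] at h4
      have hN2 : 2 ≤ N := by
        have : 1 ≤ n * p := Nat.mul_pos hn1 hp.out.pos
        omega
      nlinarith
    have hA : (n + 1) * (1 + D.t * Xp.card) + D.t = p - 1 := by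
      rw [Finset.sum_congr rfl fun b hb => by rw [hsmall b hb], Finset.sum_const, nsmul_eq_mul,
        hp1, hW, one_mul] at hrel
      have h1 : (D.e : ℤ) * D.t = (p : ℤ) - 1 := by rw [← hp1, ← het]; push_cast; ring
      have h2 : (D.t : ℤ) * d = 1 + n * p := by rw [← Nat.cast_mul, htd, hNdef]; push_cast; ring
      have h3 : (Xp.card : ℤ) + Xm.card + 1 = D.e := by exact_mod_cast hcard
      have hNc : (N : ℤ) = 1 + n * p := by rw [hNdef]; push_cast; ring
      rw [hNc] at hrel
      apply Int.natCast_inj.1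
      rw [hp1]
      push_cast
      refine mul_left_cancel₀ (show (p : ℤ) ≠ 0 by exact_mod_cast hp.out.ne_zero) ?_
      linear_combination (D.t : ℤ) * hrel + (-1 : ℤ) * h2 +
        ((D.t : ℤ) * ((p : ℤ) - 1)) * h3 + ((p : ℤ) - 1) * h1
    refine ⟨hW, hA, fun θ hθ => by rw [D.deg_Y_eq hθ hθ₀, ← hd, htd], ?_⟩
    obtain ⟨μ, hμ⟩ : Xm.Nonempty := by
      rw [← Finset.card_pos]
      by_contra h0
      rw [Finset.card_eq_zero.1 (Nat.eq_zero_of_not_pos h0), Finset.sum_empty, hW, one_mul] at hrel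
      have h1 : (0 : ℤ) ≤ (Xp.card : ℤ) * N := mul_nonneg (Int.natCast_nonneg _) (Int.natCast_nonneg _)
      omega
    exact ⟨μ, (Finset.mem_filter.1 hμ).1, (Finset.mem_filter.1 hμ).2, by
      rw [hsmall μ hμ]; exact Nat.sub_one_lt hp.out.ne_zero⟩
  · right
    rw [hW, mul_neg, mul_one, neg_neg] at hYd
    obtain ⟨q, hq⟩ := D.deg_dvd_Y hx hθ₀
    have hA_le : Xp.card + 1 ≤ D.e := by omega
    have heN : D.e * N' = D.e * N := by rw [hn]
    rw [heN, ← hd] at hq
    have hq1 : (q : ℤ) ≡ 1 [ZMOD p] := by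
      have h3 : (D.e : ℤ) * N = (d : ℤ) * q := by exact_mod_cast congrArg (fun m : ℕ => (m : ℤ)) hq
      have h4 : (D.e : ℤ) * N ≡ (D.e : ℤ) * 1 [ZMOD p] := hN1.mul_left _
      rw [h3] at h4
      have h5 : (D.e : ℤ) * q ≡ (D.e : ℤ) * 1 [ZMOD p] := (hYd.mul_right q).symm.trans h4
      have hgcd : Int.gcd (p : ℤ) (D.e : ℤ) = 1 := by
        rw [Int.gcd_natCast_natCast]
        refine hp.out.coprime_iff_not_dvd.2 fun h => ?_
        have := Nat.le_of_dvd D.e_pos h
        have h6 : D.e ≤ p - 1 := by rw [← het]; exact Nat.le_mul_of_pos_right _ D.t_pos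
        omega
      have h7 := Int.ModEq.cancel_left_div_gcd (by exact_mod_cast hp.out.pos) h5
      rwa [hgcd, Nat.cast_one, Int.ediv_one] at h7
    have hqdvd : q ∣ (p - 1) * N := (Dvd.intro_left d hq.symm).trans (hdvd _ (by rw [heN]))
    have hde : d = D.e := by
      rcases eq_one_or_eq hp.out hNmod hF (hmod _ hq1) hqdvd with h | h
      · exfalso
        rw [h, mul_one] at hq
        have h1 : (1 : ℤ) + Xp.card * N + D.W * d ≥ 0 := by
          rw [hrel]; exact Finset.sum_nonneg fun _ _ => Int.natCast_nonneg _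
        rw [hW, ← hq] at h1
        have h2 : ((Xp.card : ℤ) + 1) * N ≤ (D.e : ℤ) * N :=
          mul_le_mul_of_nonneg_right (by exact_mod_cast hA_le) (Int.natCast_nonneg _)
        push_cast at h1
        have h3 : (1 : ℤ) < N := by
          have : 1 ≤ n * p := Nat.mul_pos hn1 hp.out.pos
          exact_mod_cast (show 1 < N by omega)
        nlinarith
      · rw [h] at hq
        exact (Nat.eq_of_mul_eq_mul_right (show 0 < N by omega) hq).symm
    have hsmall : ∀ b ∈ Xm, charDegree (b : G → ℂ) = p - 1 := by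
      by_contra hno
      push Not at hno
      obtain ⟨b, hb, hbne⟩ := hno
      have h3 : (charDegree (b : G → ℂ) : ℤ) ≤ ∑ b ∈ Xm, (charDegree (b : G → ℂ) : ℤ) :=
        Finset.single_le_sum (f := fun b : IrrCharacter G => (charDegree (b : G → ℂ) : ℤ))
          (fun _ _ => Int.natCast_nonneg _) hb
      rw [← hrel, hW, (hminus b hb).resolve_left hbne, Nat.cast_mul, hp1] at h3
      have h5 : D.e ≤ p - 1 := by rw [← het]; exact Nat.le_mul_of_pos_right _ D.t_pos
      have hm1 : 1 ≤ Xm.card := Finset.card_pos.2 ⟨b, hb⟩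
      have h6 : (Xp.card : ℤ) + 2 ≤ (p : ℤ) - 1 := by rw [← hp1]; exact_mod_cast (by omega : Xp.card + 2 ≤ p - 1)
      have h7 : (1 : ℤ) < N := by
        have : 1 ≤ n * p := Nat.mul_pos hn1 hp.out.pos
        exact_mod_cast (show 1 < N by omega)
      nlinarith
    refine ⟨hW, ?_, ?_, fun θ hθ => by rw [D.deg_Y_eq hθ hθ₀, ← hd, hde]⟩
    · have ht := D.t_pos
      rcases Nat.lt_or_ge D.t 2 with h | h
      · have := D.t_one (by omega)
        omega
      · exact h
    · rw [Finset.sum_congr rfl fun b hb => by rw [hsmall b hb], Finset.sum_const, nsmul_eq_mul,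
        hp1, hW, hde] at hrel
      have h3 : (Xp.card : ℤ) + Xm.card + 1 = D.e := by exact_mod_cast hcard
      have hNc : (N : ℤ) = 1 + n * p := by rw [hNdef]; push_cast; ring
      rw [hNc] at hrel
      apply Int.natCast_inj.1
      push_cast
      refine mul_left_cancel₀ (show (p : ℤ) ≠ 0 by exact_mod_cast hp.out.ne_zero) ?_
      linear_combination hrel + ((p : ℤ) - 1) * h3

/-- The centralizer of the Sylow subgroup is that subgroup. -/
theorem centralizer_eq (P : Sylow p G) (hPx : (P : Subgroup G) = Subgroup.zpowers x)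
    (hcore : ∀ K : Subgroup G, K.Normal → ¬ p ∣ Nat.card K → K = ⊥)
    (hx : orderOf x = p) {χ : IrrCharacter G} (hlt : charDegree (χ : G → ℂ) < p)
    (hval : ∀ y ∈ Subgroup.zpowers x, y ≠ 1 → ∀ c ∈ Subgroup.centralizer ({x} : Set G),
      ¬ p ∣ orderOf c → (χ : G → ℂ) (y * c) = (χ : G → ℂ) y)
    (hnt : ∃ y ∈ Subgroup.zpowers x, (χ : G → ℂ) y ≠ (χ : G → ℂ) 1) :
    Subgroup.centralizer ({x} : Set G) = Subgroup.zpowers x := by
  classical
  set C := Subgroup.centralizer ({x} : Set G) with hC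
  have hxC : Subgroup.zpowers x ≤ C := Subgroup.zpowers_le.2 (by
    rw [hC, Subgroup.mem_centralizer_singleton_iff])
  set K := Chars.charKer (Chars.irr_isCharacter χ) with hK
  haveI hKn : K.Normal := Chars.charKer_normal _
  have hKbot : K = ⊥ := hcore K hKn fun hdvd => by
    obtain ⟨⟨u, hu⟩, huo⟩ := exists_prime_orderOf_dvd_card' p hdvd
    rw [← Subgroup.orderOf_coe] at huo
    have hcard : Nat.card (Subgroup.zpowers u) = p ^ (Nat.card G).factorization p := by
      rw [← P.card_eq_multiplicity, hPx, Nat.card_zpowers, Nat.card_zpowers, huo, hx]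
    obtain ⟨a, ha⟩ := MulAction.exists_smul_eq G (Sylow.ofCard _ hcard) P
    obtain ⟨y, hy, hy1⟩ := hnt
    refine hy1 ?_
    have hy' : y ∈ K := by
      have h1 : y ∈ (MulAut.conj a • (Sylow.ofCard _ hcard : Sylow p G) : Sylow p G) := by
        show y ∈ ((a • Sylow.ofCard _ hcard : Sylow p G) : Subgroup G)
        rw [ha, hPx]
        exact hy
      obtain ⟨w, hw, hwy⟩ := h1
      rw [← hwy]
      refine hKn.conj_mem w ?_ a
      simp only [Sylow.coe_ofCard] at hw
      exact Subgroup.zpowers_le.2 hu hw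
    exact hy'
  have hreg : ∀ c ∈ C, ¬ p ∣ orderOf c → c = 1 := fun c hc hcp => by
    rw [← Subgroup.mem_bot, ← hKbot]
    show (χ : G → ℂ) c = (χ : G → ℂ) 1
    refine apply_eq_of_section hp.out (Chars.irr_isCharacter χ) (apply_one_eq_deg χ) hlt hx
      (show Commute x c from (Subgroup.mem_centralizer_singleton_iff.1 hc).symm) fun y hy hy1 w hw => ?_
    obtain ⟨i, rfl⟩ := hw
    refine hval y hy hy1 _ (zpow_mem hc i) fun h => hcp ?_
    exact h.trans (Subgroup.orderOf_dvd_natCard _ (Subgroup.zpow_mem _ (Subgroup.mem_zpowers c) i)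
      |>.trans (by rw [Nat.card_zpowers]))
  have hCp : IsPGroup p C := by
    rw [IsPGroup.iff_card]
    refine ⟨(Nat.card C).factorization p, ?_⟩
    refine Nat.eq_pow_of_factorization_eq_single Nat.card_pos.ne' ?_
    ext q
    by_cases hq : q = p
    · subst hq; simp
    · rw [Finsupp.single_apply, if_neg (Ne.symm hq)]
      by_contra h0
      have hqp : q.Prime := Nat.prime_of_mem_primeFactors (by
        rw [← Nat.support_factorization]; exact Finsupp.mem_support_iff.2 h0)
      haveI := Fact.mk hqp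
      obtain ⟨⟨c, hc⟩, hco⟩ := exists_prime_orderOf_dvd_card' (G := C) q
        (Nat.dvd_of_factorization_pos h0)
      rw [← Subgroup.orderOf_coe] at hco
      have hco' : orderOf c = q := hco
      have := hreg c hc (by
        rw [hco']
        exact fun h => hq ((Nat.prime_dvd_prime_iff_eq hp.out hqp).1 h).symm)
      rw [this, orderOf_one] at hco'
      exact hqp.ne_one hco'.symm
  have hmax := P.is_maximal' hCp (by rw [hPx]; exact hxC)
  rw [hmax, hPx]

end Cfsg.Agent.Screen.BrauerP
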