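import Cfsg.Agent.Screen.BrauerP.Fixed
import Cfsg.Agent.Screen.BrauerP.Degrees
import Cfsg.Agent.Screen.BrauerP.Semiaffine
import Cfsg.Agent.Chars.SimpleDegreeTools
import Cfsg.Agent.S0732
import Cfsg.Agent.S4706

/-!
A perfect group with a Sylow subgroup of prime order and trivial `p'`-core whose number of Sylow
subgroups avoids the arithmetic condition is `PSL₂(p)` or `SL₂(p - 1)`.
-/

set_option autoImplicit false
set_option linter.unusedSectionVars false
set_option linter.style.haveILetI false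
set_option maxHeartbeats 1600000

namespace Cfsg.Agent.Screen.BrauerP

open Cfsg Cfsg.Agent MulAction
open scoped ComplexConjugate commutatorElement

universe u

variable {G : Type u} [Group G] [Fintype G] {p : ℕ} [hp : Fact p.Prime] {x : G}

theorem one_lt_sylow_count (hperf : commutator G = ⊤) (P : Sylow p G) (hP : Nat.card P = p) :
    ¬ (P : Subgroup G).Normal := by
  intro hn
  haveI := hn
  have h2 := two_le_relIndex_of_perfect hperf P hP
  haveI : IsCyclic (P : Subgroup G) := isCyclic_of_prime_card hP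
  haveI : IsCyclic (ZMod (Nat.card (P : Subgroup G)))ˣ := by rw [hP]; infer_instance
  haveI : IsCyclic (MulAut (P : Subgroup G)) :=
    isCyclic_of_surjective (IsCyclic.mulAutMulEquiv (P : Subgroup G)).symm.toMonoidHom
      (IsCyclic.mulAutMulEquiv (P : Subgroup G)).symm.surjective
  let φ : G →* MulAut (P : Subgroup G) := MulAut.conjNormal
  have hker : φ.ker = ⊤ := by
    rw [eq_top_iff, ← hperf, commutator_def, Subgroup.commutator_le]
    intro a _ b _
    rw [MonoidHom.mem_ker, map_commutatorElement, commutatorElement_eq_one_iff_mul_comm]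
    exact mul_comm' _ _
  have hC : Subgroup.centralizer ((P : Subgroup G) : Set G) = ⊤ := by
    rw [eq_top_iff]
    intro g _
    rw [Subgroup.mem_centralizer_iff]
    intro y hy
    have h : φ g = 1 := by rw [← MonoidHom.mem_ker, hker]; trivial
    have h1 := congrArg (fun f : MulAut (P : Subgroup G) => ((f ⟨y, hy⟩ : (P : Subgroup G)) : G)) h
    simp only [φ, MulAut.conjNormal_apply, MulAut.one_apply] at h1
    exact (mul_inv_eq_iff_eq_mul.1 h1).symm
  rw [hC, Subgroup.relIndex_top_left] at h2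
  omega

/-- The data common to all the steps. -/
structure Ctx (p n : ℕ) (x : G) (D : PData p x) where
  /-- The complement of the Sylow subgroup in its normalizer. -/
  S : Split p D.e x
  /-- The ordinary characters of positive sign. -/
  Xp : Finset (IrrCharacter G)
  hperf : commutator G = ⊤
  hcore : ∀ K : Subgroup G, K.Normal → ¬ p ∣ Nat.card K → K = ⊥
  he2 : 2 ≤ D.e
  hn1 : 1 ≤ n
  hidx : (nX x).index = 1 + n * p
  sub : Xp ⊆ D.X
  one_notMem : Blocks.oneChar G ∉ Xp
  plus : ∀ ψ ∈ Xp, D.ε ψ = 1 ∧ charDegree (ψ : G → ℂ) = 1 + n * p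

namespace Ctx

variable {n : ℕ} {D : PData p x} (c : Ctx p n x D)
include c

theorem card_G : Nat.card G = (1 + n * p) * (p * D.e) := by
  rw [← (nX x).card_mul_index, c.S.card_normalizer, c.hidx, mul_comm]

theorem hxne : x ≠ 1 := fun h => hp.out.ne_one (by rw [← c.S.hx, h, orderOf_one])

theorem eq_bot_of_le (K : Subgroup G) (hK : K.Normal) (hle : K ≤ nX x) : K = ⊥ := by
  refine c.hcore K hK fun hdvd => ?_
  obtain ⟨⟨u, hu⟩, huo⟩ := exists_prime_orderOf_dvd_card' p hdvd
  rw [← Subgroup.orderOf_coe] at huo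
  have huo' : orderOf u = p := huo
  have hu1 : u ≠ 1 := fun h => hp.out.ne_one (by rw [← huo', h, orderOf_one])
  have huP : u ∈ Subgroup.zpowers x :=
    c.S.mem_zpowers_of_pow (hle hu) (by rw [← huo', pow_orderOf_eq_one])
  have hall : ∀ a : G, a ∈ nX x := fun a => by
    refine c.S.mem_of_conj huP hu1 (c.S.mem_zpowers_of_pow ?_ ?_)
    · have := hle (hK.conj_mem u hu a⁻¹)
      rwa [inv_inv] at this
    · rw [show a⁻¹ * u * a = a⁻¹ * u * (a⁻¹)⁻¹ by rw [inv_inv], conj_pow, ← huo',
        pow_orderOf_eq_one]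
      group
  have h1 : (nX x).index = 1 := Subgroup.index_eq_one.2 (eq_top_iff.2 fun a _ => hall a)
  rw [c.hidx] at h1
  have := Nat.mul_pos c.hn1 hp.out.pos
  omega

theorem cf_X_one {ψ : IrrCharacter G} (hψ : ψ ∈ c.Xp) : c.S.cf (ψ : G → ℂ) 1 = (n : ℂ) + 1 := by
  rw [c.S.cf_one_of_const (c := 1) fun y hy hy1 => ?_]
  · rw [apply_one_eq_deg, (c.plus ψ hψ).2]
    have := hp.out.ne_zero
    push_cast
    field_simp
    ring
  · have h := D.X_value ψ (c.sub hψ) y hy hy1 1 (Subgroup.one_mem _)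
      (by rw [orderOf_one]; exact hp.out.not_dvd_one)
    rw [mul_one, (c.plus ψ hψ).1] at h
    simpa using h

theorem cf_Y_one {θ : IrrCharacter G} (hθ : θ ∈ D.Y) :
    c.S.cf (θ : G → ℂ) 1 = (p : ℂ)⁻¹ * ((charDegree (θ : G → ℂ) : ℂ) + (D.e : ℂ) * (D.W : ℂ)) := by
  rw [c.S.cf_one, Finset.range_eq_Ico, Finset.sum_eq_sum_Ico_succ_bot hp.out.pos,
    pow_zero, zero_add, D.Y_sumP θ hθ, apply_one_eq_deg]

theorem cf_Y_eq {θ θ' : IrrCharacter G} (hθ : θ ∈ D.Y) (hθ' : θ' ∈ D.Y) :
    c.S.cf (θ : G → ℂ) = c.S.cf (θ' : G → ℂ) := by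
  funext h
  by_cases hh : h = 1
  · subst hh
    rw [c.cf_Y_one hθ, c.cf_Y_one hθ', D.deg_Y_eq hθ hθ']
  · rw [c.S.cf_of_ne _ hh, c.S.cf_of_ne _ hh]
    exact D.Y_reg θ hθ θ' hθ' _ (c.S.not_dvd_orderOf h.2)

/-- The multiplicity of an irreducible character in a monomial one. -/
theorem inner_ind (χ : IrrCharacter G) (l : IrrCharacter c.S.H) :
    classInner (c.S.ind l) (χ : G → ℂ) = classInner (c.S.cf (χ : G → ℂ)) (l : c.S.H → ℂ) := by
  obtain ⟨k, hk⟩ := Chars.exists_classInner_eq_nat (Chars.irr_isCharacter χ) (c.S.isCharacter_ind l)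
  rw [← c.S.classInner_ind (Chars.isClassFunction_irr χ) l, ← Chars.classInner_conj_symm, hk,
    map_natCast]

open scoped Classical in
/-- The characters of the complement which occur in the restriction of `χ`. -/
noncomputable def occ (χ : IrrCharacter G) : Finset (IrrCharacter c.S.H) :=
  Finset.univ.filter fun l => classInner (c.S.cf (χ : G → ℂ)) (l : c.S.H → ℂ) ≠ 0

theorem mem_occ {χ : IrrCharacter G} {l : IrrCharacter c.S.H} :
    l ∈ c.occ χ ↔ classInner (c.S.cf (χ : G → ℂ)) (l : c.S.H → ℂ) ≠ 0 := by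
  classical
  simp [occ]

theorem ind_eq_X {ψ : IrrCharacter G} (hψ : ψ ∈ c.Xp) {l : IrrCharacter c.S.H}
    (hl : l ∈ c.occ ψ) : c.S.ind l = (ψ : G → ℂ) := by
  have h := eq_sum_of_mult (c.S.isCharacter_ind l) {ψ} (fun ψ' hψ' => by
    rw [Finset.mem_singleton.1 hψ', c.inner_ind]; exact c.mem_occ.1 hl)
    (by rw [c.S.ind_one, Finset.sum_singleton, (c.plus ψ hψ).2, c.hidx])
  rwa [Finset.sum_singleton] at h

theorem mult_X {ψ : IrrCharacter G} (hψ : ψ ∈ c.Xp) {l : IrrCharacter c.S.H}
    (hl : l ∈ c.occ ψ) : classInner (c.S.cf (ψ : G → ℂ)) (l : c.S.H → ℂ) = 1 := by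
  rw [← c.inner_ind, c.ind_eq_X hψ hl, Chars.classInner_self_irr ψ.2]

theorem card_occ_X {ψ : IrrCharacter G} (hψ : ψ ∈ c.Xp) : (c.occ ψ).card = n + 1 := by
  classical
  have h := c.S.sum_mult (c.S.cf (ψ : G → ℂ))
  rw [c.cf_X_one hψ, ← Finset.sum_subset (Finset.subset_univ (c.occ ψ)) fun l _ hl =>
    by_contra fun h0 => hl (c.mem_occ.2 h0), Finset.sum_congr rfl fun l hl => c.mult_X hψ hl,
    Finset.sum_const, nsmul_eq_mul, mul_one] at h
  exact_mod_cast h

/-- In the family of negative sign the characters of positive sign are few. -/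
theorem minus_bound (hW : D.W = -1) (hdeg : ∀ θ ∈ D.Y, charDegree (θ : G → ℂ) = D.e) :
    1 + c.Xp.card * (1 + n * p) ≤ D.e * D.e := by
  classical
  obtain ⟨θ, hθ⟩ := D.exists_Y
  have hz : ∀ h : c.S.H, c.S.cf (θ : G → ℂ) h = 0 := by
    have h1 : c.S.cf (θ : G → ℂ) 1 = 0 := by
      rw [c.cf_Y_one hθ, hdeg θ hθ, hW]
      simp
    have hL : ∀ l : IrrCharacter c.S.H,
        classInner (c.S.cf (θ : G → ℂ)) (l : c.S.H → ℂ) = 0 := by
      choose k hk using c.S.exists_mult (Chars.irr_isCharacter θ)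
      intro l
      have h := c.S.sum_mult (c.S.cf (θ : G → ℂ))
      rw [h1, Finset.sum_congr rfl fun l _ => hk l, ← Nat.cast_sum, Nat.cast_eq_zero] at h
      rw [hk, Finset.sum_eq_zero_iff.1 h l (Finset.mem_univ l), Nat.cast_zero]
    intro h
    rw [c.S.cf_eq_sum (c.S.cf (θ : G → ℂ)) h, Finset.sum_eq_zero fun l _ => by rw [hL l, zero_mul]]
  set f : G → ℂ := fun g => (θ : G → ℂ) g * conj ((θ : G → ℂ) g) with hf
  have hfc : IsCharacter G f :=
    Chars.isCharacter_mul (Chars.irr_isCharacter θ) (Chars.isCharacter_star (Chars.irr_isCharacter θ))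
  have hf1 : f 1 = ((D.e * D.e : ℕ) : ℂ) := by
    rw [hf]
    show (θ : G → ℂ) 1 * conj ((θ : G → ℂ) 1) = _
    rw [apply_one_eq_deg, hdeg θ hθ, map_natCast, Nat.cast_mul]
  -- the norm of the restriction to the Sylow subgroup
  obtain ⟨s, hs, hsd⟩ := le_norm_of_comm
    (fun a b : Subgroup.zpowers x => mul_comm' a b)
    (Chars.isCharacter_restrict (Chars.irr_isCharacter θ) (Subgroup.zpowers x))
    (d := D.e) (by
      show (θ : G → ℂ) ((1 : Subgroup.zpowers x) : G) = _
      rw [OneMemClass.coe_one, apply_one_eq_deg, hdeg θ hθ])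
  have hcf1 : c.S.cf f 1 = (s : ℂ) := by
    rw [c.S.cf_one, ← hs, Chars.classInner_def, Nat.card_zpowers, c.S.hx]
    congr 1
    rw [Finset.sum_range]
    refine Fintype.sum_equiv ((finCongr c.S.hx.symm).trans
      (finEquivZPowers (isOfFinOrder_of_finite x))) _ _ fun i => ?_
    simp [hf, finEquivZPowers_apply]
  have hmult : ∀ l : IrrCharacter c.S.H, ∃ k : ℕ, 1 ≤ k ∧
      classInner f (c.S.ind l) = (k : ℂ) := by
    intro l
    obtain ⟨k, hk⟩ := c.S.exists_mult hfc l
    refine ⟨k, ?_, by rw [c.S.classInner_ind (Chars.isClassFunction_of_isCharacter hfc), hk]⟩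
    rw [Chars.classInner_def, Finset.sum_eq_single (1 : c.S.H), hcf1, c.S.l_one, map_one, mul_one,
      c.S.cardH] at hk
    · have he0 : (D.e : ℂ) ≠ 0 := Nat.cast_ne_zero.2 (by have := c.he2; omega)
      field_simp at hk
      have hk' : s = D.e * k := by exact_mod_cast hk
      rcases Nat.eq_zero_or_pos k with h0 | h0
      · rw [h0, mul_zero] at hk'; have := c.he2; omega
      · exact h0
    · intro h _ hh
      rw [c.S.cf_of_ne _ hh, hf]
      have h2 := hz h
      rw [c.S.cf_of_ne _ hh] at h2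
      show (θ : G → ℂ) h * conj ((θ : G → ℂ) h) * _ = 0
      rw [h2, zero_mul, zero_mul]
    · intro h; exact absurd (Finset.mem_univ _) h
  choose m hm using fun ψ : IrrCharacter G =>
    Chars.exists_classInner_eq_nat hfc (Chars.irr_isCharacter ψ)
  have hm1 : m (Blocks.oneChar G) = 1 := by
    have h : classInner f ((Blocks.oneChar G : IrrCharacter G) : G → ℂ) = 1 := by
      rw [← Chars.classInner_self_irr θ.2, Chars.classInner_def, Chars.classInner_def]
      congr 1
      refine Finset.sum_congr rfl fun g _ => ?_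
      simp [hf, Blocks.coe_oneChar]
    rw [hm] at h
    exact_mod_cast h
  have hmX : ∀ ψ ∈ c.Xp, 1 ≤ m ψ := fun ψ hψ => by
    obtain ⟨l, hl⟩ := Finset.card_pos.1 (by rw [c.card_occ_X hψ]; omega : 0 < (c.occ ψ).card)
    obtain ⟨k, hk1, hk⟩ := hmult l
    rw [c.ind_eq_X hψ hl, hm] at hk
    have : m ψ = k := by exact_mod_cast hk
    omega
  have h := sum_mult_le hfc hf1 (insert (Blocks.oneChar G) c.Xp) m fun ψ _ => hm ψ
  rw [Finset.sum_insert c.one_notMem, hm1, one_mul] at h
  have hd1 : charDegree ((Blocks.oneChar G : IrrCharacter G) : G → ℂ) = 1 := by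
    simp [Blocks.coe_oneChar, charDegree]
  rw [hd1] at h
  refine le_trans ?_ h
  refine Nat.add_le_add_left ?_ 1
  rw [← smul_eq_mul, ← Finset.sum_const]
  exact Finset.sum_le_sum fun ψ hψ => by
    rw [(c.plus ψ hψ).2]; exact Nat.le_mul_of_pos_left _ (hmX ψ hψ)

/-- One Sylow subgroup more than `p` : the projective line. -/
theorem case_one (hn : n = 1) (hhalf : 2 * D.e = p - 1) :
    Nonempty (G ≃* Matrix.ProjectiveSpecialLinearGroup (Fin 2) (ZMod p)) := by
  classical
  haveI : Fintype (G ⧸ nX x) := Fintype.ofFinite _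
  have hα : Fintype.card (G ⧸ nX x) = p + 1 := by
    rw [← Nat.card_eq_fintype_card, ← Subgroup.index, c.hidx, hn]; ring
  set φ : G →* Equiv.Perm (G ⧸ nX x) := MulAction.toPermHom G (G ⧸ nX x)
  have hinj : Function.Injective φ := by
    rw [← MonoidHom.ker_eq_bot_iff]
    refine c.eq_bot_of_le _ inferInstance fun g hg => ?_
    have h := Equiv.ext_iff.1 (MonoidHom.mem_ker.1 hg) ((1 : G) : G ⧸ nX x)
    have h' : g • ((1 : G) : G ⧸ nX x) = ((1 : G) : G ⧸ nX x) := h
    rw [c.S.smul_mk_eq_iff] at h'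
    simpa using h'
  let iso : G ≃* φ.range := MonoidHom.ofInjective hinj
  haveI : IsPretransitive φ.range (G ⧸ nX x) := ⟨fun a b => by
    obtain ⟨g, hg⟩ := exists_smul_eq G a b
    exact ⟨⟨φ g, g, rfl⟩, hg⟩⟩
  have hd : D.e < p := by have := c.he2; omega
  have hcard : Nat.card φ.range = (p + 1) * p * D.e := by
    rw [← Nat.card_congr iso.toEquiv, c.card_G, hn]; ring
  rcases S0732.result hp.out hα φ.range hcard hd with ⟨h, -⟩ | ⟨-, ⟨e⟩⟩ | ⟨q, hq, -, -, e, he⟩
  · have := c.he2; omega
  · exact ⟨iso.trans e⟩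
  · exfalso
    haveI : Fact (2 : ℕ).Prime := ⟨Nat.prime_two⟩
    haveI : Finite (GaloisField 2 q) := Finite.of_equiv _ e
    let f : G →* Equiv.Perm (GaloisField 2 q) := e.permCongrHom.toMonoidHom.comp φ
    haveI := subsingleton_of_semiaffine c.hperf f (e.permCongrHom.injective.comp hinj)
      fun g => he ⟨φ g, g, rfl⟩
    exact c.hxne (Subsingleton.elim x 1)

/-- The main case. -/
theorem case_many (hn2 : 2 ≤ n) (hW : D.W = 1)
    (hA : (n + 1) * (1 + D.t * c.Xp.card) + D.t = p - 1)
    (hdY : ∀ θ ∈ D.Y, D.t * charDegree (θ : G → ℂ) = 1 + n * p) :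
    ∃ (a : ℕ) (F : Type) (_ : Field F) (_ : Fintype F), p = 2 ^ a + 1 ∧ 3 < p ∧
      Fintype.card F = 2 ^ a ∧ Nonempty (G ≃* Matrix.SpecialLinearGroup (Fin 2) F) := by
  classical
  set H := c.S.H with hHdef
  have hp2 := hp.out.two_le
  have het := D.mul_et
  obtain ⟨θ₀, hθ₀⟩ := D.exists_Y
  set d := charDegree (θ₀ : G → ℂ) with hddef
  have hd := hdY θ₀ hθ₀
  rw [← hddef] at hd
  set Lam := c.occ θ₀ with hLam
  have hindY : ∀ l ∈ Lam, c.S.ind l = ∑ θ ∈ D.Y, (θ : G → ℂ) := fun l hl =>
    eq_sum_of_mult (c.S.isCharacter_ind l) D.Y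
      (fun θ hθ => by rw [c.inner_ind, c.cf_Y_eq hθ hθ₀]; exact c.mem_occ.1 hl)
      (by
        rw [c.S.ind_one, c.hidx, Finset.sum_congr rfl fun θ hθ => D.deg_Y_eq hθ hθ₀,
          Finset.sum_const, D.card_Y, smul_eq_mul, ← hddef, hd])
  have hmY : ∀ l ∈ Lam, classInner (c.S.cf (θ₀ : G → ℂ)) (l : c.S.H → ℂ) = 1 := fun l hl => by
    rw [← c.inner_ind, hindY l hl, Chars.classInner_sum_left, Finset.sum_eq_single θ₀]
    · exact Chars.classInner_self_irr θ₀.2
    · intro θ _ hne
      exact Chars.classInner_irr_of_ne θ.2 θ₀.2 fun h => hne (Subtype.ext h)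
    · exact fun h => absurd hθ₀ h
  have hwt : Lam.card * D.t = n + 1 := by
    have h := c.S.sum_mult (c.S.cf (θ₀ : G → ℂ))
    rw [c.cf_Y_one hθ₀, hW, ← Finset.sum_subset (Finset.subset_univ Lam) fun l _ hl =>
      by_contra fun h0 => hl (c.mem_occ.2 h0), Finset.sum_congr rfl hmY,
      Finset.sum_const, nsmul_eq_mul, mul_one, ← hddef] at h
    have h1 : ((D.e : ℂ) * D.t) = (p : ℂ) - 1 := by
      rw [← Nat.cast_mul, het, Nat.cast_sub hp.out.one_le, Nat.cast_one]
    have h2 : (D.t : ℂ) * d = 1 + n * p := by exact_mod_cast hd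
    have hp0 : (p : ℂ) ≠ 0 := Nat.cast_ne_zero.2 hp.out.ne_zero
    field_simp at h
    apply Nat.cast_injective (R := ℂ)
    push_cast
    refine mul_left_cancel₀ hp0 ?_
    linear_combination (D.t : ℂ) * h + h1 + h2
  have htriv1 : classInner (c.S.ind c.S.triv) ((Blocks.oneChar G : IrrCharacter G) : G → ℂ) = 1 := by
    rw [c.inner_ind]
    have h : c.S.cf ((Blocks.oneChar G : IrrCharacter G) : G → ℂ) = (c.S.triv : c.S.H → ℂ) := by
      funext h
      by_cases hh : h = 1
      · subst hh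
        rw [Blocks.coe_oneChar, c.S.cf_one_of_const (c := 1) fun y _ _ => rfl]
        have := hp.out.ne_zero
        simp [Blocks.coe_oneChar, Split.triv]
      · rw [c.S.cf_of_ne _ hh]; rfl
    rw [h]
    exact Chars.classInner_self_irr (c.S.triv).2
  have htrivX : ∀ ψ ∈ c.Xp, c.S.triv ∉ c.occ ψ := fun ψ hψ h => by
    rw [c.ind_eq_X hψ h, Chars.classInner_irr_of_ne ψ.2 (Blocks.oneChar G).2
      (fun h' => c.one_notMem ((Subtype.ext h' : ψ = Blocks.oneChar G) ▸ hψ))] at htriv1
    exact zero_ne_one htriv1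
  have htrivY : c.S.triv ∉ Lam := fun h => by
    rw [hindY _ h, Chars.classInner_sum_left, Finset.sum_eq_zero fun θ hθ =>
      Chars.classInner_irr_of_ne θ.2 (Blocks.oneChar G).2
        (fun h' => D.one_notMem ((Subtype.ext h' : θ = Blocks.oneChar G) ▸ hθ))] at htriv1
    exact zero_ne_one htriv1
  -- every nontrivial character of the complement occurs
  have hdisjY : ∀ ψ ∈ c.Xp, Disjoint (c.occ ψ) Lam := fun ψ hψ =>
    Finset.disjoint_left.2 fun l hl hl' => by
      have h := c.inner_ind θ₀ l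
      rw [c.ind_eq_X hψ hl, hmY l hl', Chars.classInner_irr_of_ne ψ.2 θ₀.2 (fun h' =>
        Finset.disjoint_left.1 D.disj (c.sub hψ) ((Subtype.ext h' : ψ = θ₀) ▸ hθ₀))] at h
      exact zero_ne_one h
  have hdisjX : (c.Xp : Set (IrrCharacter G)).PairwiseDisjoint c.occ := by
    intro ψ hψ ψ' hψ' hne
    exact Finset.disjoint_left.2 fun l hl hl' => hne (Subtype.ext
      ((c.ind_eq_X hψ hl).symm.trans (c.ind_eq_X hψ' hl')))
  have hA' : D.e = 1 + Lam.card + c.Xp.card * (n + 1) := by
    refine Nat.eq_of_mul_eq_mul_right D.t_pos ?_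
    rw [het, ← hA, ← hwt]; ring
  have hUeq : c.Xp.biUnion c.occ ∪ Lam = Finset.univ.erase c.S.triv := by
    refine Finset.eq_of_subset_of_card_le (fun l hl => Finset.mem_erase.2 ⟨?_, Finset.mem_univ _⟩) ?_
    · rintro rfl
      rcases Finset.mem_union.1 hl with h | h
      · obtain ⟨ψ, hψ, h'⟩ := Finset.mem_biUnion.1 h
        exact htrivX ψ hψ h'
      · exact htrivY h
    · rw [Finset.card_erase_of_mem (Finset.mem_univ _), Finset.card_univ, ← Nat.card_eq_fintype_card,
        c.S.card_irr, Finset.card_union_of_disjoint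
          ((Finset.disjoint_biUnion_left _ _ _).2 hdisjY), Finset.card_biUnion hdisjX,
        Finset.sum_congr rfl fun ψ hψ => c.card_occ_X hψ, Finset.sum_const, smul_eq_mul]
      omega
  have hπ : c.S.cf (c.S.ind c.S.triv) = fun _ => ((n + 1 : ℕ) : ℂ) := by
    have h1 : c.S.cf (c.S.ind c.S.triv) 1 = ((n + 1 : ℕ) : ℂ) := by
      rw [c.S.cf_one_of_const (c := 1) fun y hy hy1 => c.S.ind_of_mem _ hy hy1, c.S.ind_one, c.hidx]
      have := hp.out.ne_zero
      push_cast
      field_simp
      ring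
    have h0 : ∀ l, l ≠ c.S.triv →
        classInner (c.S.cf (c.S.ind c.S.triv)) (l : c.S.H → ℂ) = 0 := by
      intro l hl
      rw [← c.S.classInner_ind (Chars.isClassFunction_of_isCharacter (c.S.isCharacter_ind _)) l]
      have hzero : ∀ χ : IrrCharacter G, c.S.triv ∉ c.occ χ →
          classInner (c.S.ind c.S.triv) (χ : G → ℂ) = 0 := fun χ h => by
        rw [c.inner_ind]
        exact by_contra fun h0 => h (c.mem_occ.2 h0)
      have hmem : l ∈ c.Xp.biUnion c.occ ∪ Lam := by
        rw [hUeq]; exact Finset.mem_erase.2 ⟨hl, Finset.mem_univ _⟩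
      rcases Finset.mem_union.1 hmem with h | h
      · obtain ⟨ψ, hψ, h'⟩ := Finset.mem_biUnion.1 h
        rw [c.ind_eq_X hψ h']
        exact hzero ψ (htrivX ψ hψ)
      · rw [hindY l h, Chars.classInner_sum_right]
        refine Finset.sum_eq_zero fun θ hθ => hzero θ fun h' => htrivY ?_
        rw [hLam, c.mem_occ, c.cf_Y_eq hθ₀ hθ]
        exact c.mem_occ.1 h'
    funext h
    have hs := c.S.sum_mult (c.S.cf (c.S.ind c.S.triv))
    rw [Finset.sum_eq_single c.S.triv (fun l _ hl => h0 l hl)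
      (fun h => absurd (Finset.mem_univ _) h), h1] at hs
    rw [c.S.cf_eq_sum (c.S.cf (c.S.ind c.S.triv)) h, Finset.sum_eq_single c.S.triv (fun l _ hl => by rw [h0 l hl, zero_mul])
      (fun h => absurd (Finset.mem_univ _) h), hs]
    exact mul_one _
  have hk : ∀ h ∈ c.S.H, h ≠ 1 → Nat.card {q : G ⧸ nX x // h • q = q} = n + 1 := by
    intro h hh hh1
    have h2 : (⟨h, hh⟩ : c.S.H) ≠ 1 := fun h0 => hh1 (congrArg Subtype.val h0)
    have h3 := congrFun hπ ⟨h, hh⟩
    rw [c.S.cf_of_ne _ h2, c.S.ind_triv] at h3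
    exact_mod_cast h3
  obtain ⟨-, -, -, hNH⟩ := c.S.fixed_data c.he2 hk
  set NH := Subgroup.normalizer (c.S.H : Set G) with hNHdef
  -- `t = n + 1`
  have htn : D.t = n + 1 := by
    have h1 := Subgroup.card_subgroup_dvd_card NH
    rw [hNH, c.card_G, show (1 + n * p) * (p * D.e) = D.e * ((1 + n * p) * p) by ring] at h1
    have h2 := Nat.dvd_of_mul_dvd_mul_left D.e_pos h1
    have h3 : n + 1 ≤ (n + 1) * (1 + D.t * c.Xp.card) := Nat.le_mul_of_pos_right _ (by omega)
    have h4 : n + 1 < p := by omega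
    have h5 : Nat.Coprime (n + 1) p :=
      (hp.out.coprime_iff_not_dvd.2 fun h => by
        have := Nat.le_of_dvd (by omega) h; omega).symm
    have h6 : n + 1 ∣ 1 + n * p := h5.dvd_of_dvd_mul_right h2
    have h7 : n + 1 ∣ n * (p - 1) := by
      have h8 : 1 + n * p = n * (p - 1) + (n + 1) := by
        obtain ⟨k, hk⟩ : ∃ k, p = k + 1 := ⟨p - 1, by omega⟩
        rw [hk, Nat.add_sub_cancel]; ring
      rw [h8] at h6
      exact (Nat.dvd_add_left dvd_rfl).1 h6
    have h9 : n + 1 ∣ p - 1 := Nat.Coprime.dvd_of_dvd_mul_left (by simp) h7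
    rw [← hA] at h9
    exact Nat.dvd_antisymm ⟨Lam.card, by rw [mul_comm]; exact hwt.symm⟩
      ((Nat.dvd_add_right (dvd_mul_right _ _)).1 h9)
  have hw1 : Lam.card = 1 := by
    refine Nat.eq_of_mul_eq_mul_right D.t_pos ?_
    rw [hwt, htn, one_mul]
  have he : D.e = 2 + D.t * c.Xp.card := by rw [hA', hw1, htn]; ring
  have hde : d + D.e = p := by
    refine Nat.eq_of_mul_eq_mul_left D.t_pos ?_
    rw [Nat.mul_add, hd, mul_comm D.t D.e, het, htn]
    obtain ⟨k, hk'⟩ : ∃ k, p = k + 1 := ⟨p - 1, by omega⟩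
    rw [hk', Nat.add_sub_cancel]; ring
  have het' : D.t ∣ p - 1 := Dvd.intro_left _ het
  -- elements fixing no coset
  obtain ⟨lE, hlE⟩ := Finset.card_eq_one.1 hw1
  have hvanish : ∀ g : G, ¬ p ∣ orderOf g → (∀ a : G, a⁻¹ * g * a ∉ nX x) →
      (θ₀ : G → ℂ) g = 0 := by
    intro g hg hfix
    have h := c.S.ind_eq_zero lE hfix
    rw [hindY lE (hlE ▸ Finset.mem_singleton_self _), Finset.sum_apply,
      Finset.sum_congr rfl fun θ hθ => D.Y_reg θ hθ θ₀ hθ₀ g hg, Finset.sum_const,
      nsmul_eq_mul] at h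
    exact (mul_eq_zero.1 h).resolve_left (Nat.cast_ne_zero.2 (by rw [D.card_Y]; exact D.t_pos.ne'))
  have hord : ∀ g a : G, a⁻¹ * g * a ∈ nX x → orderOf g ∣ p * D.e := fun g a h => by
    have h1 := Subgroup.orderOf_dvd_natCard _ h
    rwa [c.S.card_normalizer, show a⁻¹ * g * a = MulAut.conj a⁻¹ g by simp,
      MulEquiv.orderOf_eq] at h1
  -- the number `t` is a power of two
  have hodd : ∀ q : ℕ, q.Prime → q ∣ D.t → q = 2 := by
    intro q hq hqt
    by_contra hq2
    haveI := Fact.mk hq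
    have hqp : q ≠ p := fun h => by
      have := Nat.le_of_dvd (by omega) (h ▸ hqt.trans het'); omega
    have hqe : ¬ q ∣ D.e := fun h => by
      rw [he] at h
      exact hq2 ((Nat.prime_dvd_prime_iff_eq hq Nat.prime_two).1
        ((Nat.dvd_add_left (hqt.mul_right _)).1 h))
    have hqN : q ∣ Nat.card NH := by
      rw [hNH, ← htn]; exact hqt.mul_left _
    obtain ⟨⟨g, hgN⟩, hgo⟩ := exists_prime_orderOf_dvd_card' q hqN
    rw [← Subgroup.orderOf_coe] at hgo
    have hgo' : orderOf g = q := hgo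
    have hqd : q ∣ d := by
      have h := dvd_of_vanish (Chars.irr_isCharacter θ₀) (apply_one_eq_deg θ₀) (Subgroup.zpowers g)
        fun u hu hu1 => by
          have huo : orderOf u = q := by
            have h1 := Subgroup.orderOf_dvd_natCard _ hu
            rw [Nat.card_zpowers, hgo'] at h1
            exact ((Nat.dvd_prime hq).1 h1).resolve_left fun h2 => hu1 (orderOf_eq_one_iff.1 h2)
          refine hvanish u (fun h1 => hqp ?_) fun a ha => ?_
          · rw [huo] at h1
            exact ((Nat.prime_dvd_prime_iff_eq hp.out hq).1 h1).symm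
          · have h1 := hord u a ha
            rw [huo] at h1
            rcases (Nat.Prime.dvd_mul hq).1 h1 with h2 | h2
            · exact hqp ((Nat.prime_dvd_prime_iff_eq hq hp.out).1 h2)
            · exact hqe h2
      rwa [Nat.card_zpowers, hgo', ← hddef] at h
    have h1 : q ∣ p - 1 := hqt.trans het'
    have h2 : q ∣ p - 2 := by
      rw [show p - 2 = d + D.t * c.Xp.card by omega]
      exact dvd_add hqd (hqt.mul_right _)
    have h3 : q ∣ 1 := by
      have := Nat.dvd_sub h1 h2
      rwa [show p - 1 - (p - 2) = 1 by omega] at this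
    exact hq.ne_one (Nat.dvd_one.1 h3)
  have htpow : D.t = 2 ^ D.t.primeFactorsList.length :=
    Nat.eq_prime_pow_of_unique_prime_dvd (by omega) fun {q} hq hqt => hodd q hq hqt
  set k := D.t.primeFactorsList.length with hkdef
  have hk2 : 2 ≤ k := by
    by_contra h
    have : 2 ^ k ≤ 2 ^ 1 := Nat.pow_le_pow_right (by omega) (by omega)
    omega
  have h4t : 4 ∣ D.t := by
    rw [htpow, show (4 : ℕ) = 2 ^ 2 by norm_num]
    exact pow_dvd_pow 2 hk2
  obtain ⟨t4, ht4⟩ := h4t
  have hpo : p % 2 = 1 := hp.out.eq_two_or_odd.resolve_left (by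
    have := Nat.le_of_dvd (by omega) het'; omega)
  have he4 : D.e = 2 + 4 * (t4 * c.Xp.card) := by rw [he, ht4]; ring
  have hdodd : ¬ 2 ∣ d := by omega
  -- the two-elements have order at most two
  have hexp : ∀ (g : G) (j : ℕ), orderOf g = 2 ^ j → g ^ 2 = 1 := by
    intro g j hg
    by_contra hne
    have hj : 2 ≤ j := by
      by_contra hj
      refine hne (orderOf_dvd_iff_pow_eq_one.1 ?_)
      rw [hg]
      exact (pow_dvd_pow 2 (show j ≤ 1 by omega)).trans (by norm_num)
    set u := g ^ 2 ^ (j - 2) with hu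
    have huo : orderOf u = 4 := by
      rw [hu, orderOf_pow_of_dvd (by positivity) (by rw [hg]; exact pow_dvd_pow 2 (by omega)), hg,
        Nat.pow_div (by omega) (by omega), show j - (j - 2) = 2 by omega]
      try norm_num
    have hfix : ∀ v : G, orderOf v = 4 → ¬ p ∣ orderOf v ∧ ∀ a : G, a⁻¹ * v * a ∉ nX x := by
      intro v hv
      refine ⟨fun h => ?_, fun a ha => ?_⟩
      · rw [hv] at h
        have := Nat.le_of_dvd (by norm_num) h
        have h3 := Nat.le_of_dvd (by omega) het'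
        omega
      · have h1 := hord v a ha
        rw [hv] at h1
        have h5 : Nat.Coprime 4 p := by
          rw [show (4 : ℕ) = 2 ^ 2 by norm_num]
          exact Nat.Coprime.pow_left 2 (Nat.prime_two.coprime_iff_not_dvd.2 (by omega))
        have := h5.dvd_of_dvd_mul_left h1
        omega
    have hu3 : orderOf (u ^ 3) = 4 := by
      rw [orderOf_pow, huo]; norm_num
    exact hdodd (two_dvd_of_order_four (Chars.irr_isCharacter θ₀) (apply_one_eq_deg θ₀) huo
      (hvanish u (hfix u huo).1 (hfix u huo).2) (hvanish _ (hfix _ hu3).1 (hfix _ hu3).2))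
  haveI := c.S.cyclic
  by_cases hA0 : c.Xp.card = 0
  · -- the even case
    have he2 : D.e = 2 := by simp [he, hA0]
    have h2t : 2 * D.t = p - 1 := by rw [← het, he2]
    have hd2 : d = p - 2 := by omega
    have hNHc : Nat.card NH = 2 ^ (k + 1) := by rw [hNH, he2, ← htn, htpow, pow_succ']
    have hcardG : Nat.card G = 2 ^ (k + 1) * (d * p) := by
      rw [c.card_G, ← hd, he2, htpow, pow_succ]; ring
    have hv2 : (Nat.card G).factorization 2 = k + 1 := by
      rw [hcardG, Nat.factorization_mul (by positivity)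
        (Nat.mul_ne_zero (by omega) hp.out.ne_zero), Finsupp.add_apply,
        Nat.Prime.factorization_pow Nat.prime_two, Finsupp.single_eq_same,
        Nat.factorization_eq_zero_of_not_dvd (fun h => by
          rcases (Nat.Prime.dvd_mul Nat.prime_two).1 h with h1 | h1
          · exact hdodd h1
          · omega), add_zero]
    haveI : Fact (2 : ℕ).Prime := ⟨Nat.prime_two⟩
    let S2 : Sylow 2 G := Sylow.ofCard NH (by rw [hNHc, hv2])
    have hS2 : (S2 : Subgroup G) = NH := Sylow.coe_ofCard _ _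
    have hNH2 : ∀ g ∈ NH, g ^ 2 = 1 := fun g hg => by
      have h := Subgroup.orderOf_dvd_natCard _ hg
      rw [hNHc, Nat.dvd_prime_pow Nat.prime_two] at h
      obtain ⟨j, -, hj⟩ := h
      exact hexp g j hj
    have hNHcomm : ∀ a ∈ NH, ∀ b ∈ NH, a * b = b * a := fun a ha b hb => by
      have hinv : ∀ g ∈ NH, g⁻¹ = g := fun g hg => inv_eq_of_mul_eq_one_right (by
        rw [← pow_two]; exact hNH2 g hg)
      rw [← hinv _ (mul_mem ha hb), mul_inv_rev, hinv a ha, hinv b hb]
    haveI : IsMulCommutative (S2 : Subgroup G) := ⟨⟨fun a b => Subtype.ext (by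
      refine hNHcomm a ?_ b ?_
      · rw [← hS2]; exact a.2
      · rw [← hS2]; exact b.2)⟩⟩
    obtain ⟨⟨s, hsH⟩, hs⟩ := exists_prime_orderOf_dvd_card' 2 (G := c.S.H) (by rw [c.S.cardH, he2])
    rw [← Subgroup.orderOf_coe] at hs
    have hs' : orderOf s = 2 := hs
    have hsne : s ≠ 1 := fun h => by rw [h, orderOf_one] at hs'; omega
    have hHs : ∀ h ∈ c.S.H, h ≠ 1 → h = s := fun h hh hh1 => by
      by_contra hne
      have h1 : ({1, s, h} : Finset G) ⊆ Finset.univ.filter (· ∈ c.S.H) := by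
        intro u hu
        simp only [Finset.mem_insert, Finset.mem_singleton] at hu
        rw [Finset.mem_filter]
        refine ⟨Finset.mem_univ _, ?_⟩
        rcases hu with rfl | rfl | rfl
        · exact one_mem _
        · exact hsH
        · exact hh
      have h2 := Finset.card_le_card h1
      rw [Finset.card_insert_of_notMem (by simp [hsne.symm, Ne.symm hh1]),
        Finset.card_insert_of_notMem (by simp [Ne.symm hne]), Finset.card_singleton,
        ← Fintype.card_subtype, ← Nat.card_eq_fintype_card,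
        show Nat.card {u : G // u ∈ c.S.H} = 2 by rw [← he2]; exact c.S.cardH] at h2
      omega
    have hsNH : s ∈ NH := Subgroup.le_normalizer hsH
    have hCs : ∀ g, g * s = s * g → g ∈ NH := fun g hg => by
      rw [hNHdef, Subgroup.mem_normalizer_iff]
      intro h
      have hconj : g * s * g⁻¹ = s := by rw [hg, mul_inv_cancel_right]
      constructor
      · intro hh
        by_cases h1 : h = 1
        · rw [h1, mul_one, mul_inv_cancel]; exact one_mem _
        · rw [hHs h hh h1, hconj]; exact hsH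
      · intro hh
        by_cases h1 : g * h * g⁻¹ = 1
        · rw [conj_eq_one_iff.1 h1]; exact one_mem _
        · have h2 : g * h * g⁻¹ = g * s * g⁻¹ := by rw [hHs _ hh h1, hconj]
          rw [mul_left_cancel (mul_right_cancel h2)]; exact hsH
    have hconjs : ∀ u : G, u ^ 2 = 1 → u ≠ 1 → ∃ b : G, b * s * b⁻¹ = u := by
      intro u hu hu1
      have huo : orderOf u = 2 := orderOf_eq_prime hu hu1
      have hup : ¬ p ∣ orderOf u := by
        rw [huo]; intro h; have := Nat.le_of_dvd (by norm_num) h; omega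
      obtain ⟨a, ha⟩ : ∃ a : G, a⁻¹ * u * a ∈ nX x := by
        by_contra hno
        push Not at hno
        refine hdodd ?_
        have h := dvd_of_vanish (Chars.irr_isCharacter θ₀) (apply_one_eq_deg θ₀)
          (Subgroup.zpowers u) fun v hv hv1 => by
            have hvu : v = u := by
              rw [mem_zpowers_iff_mem_range_orderOf, huo] at hv
              obtain ⟨i, hi, rfl⟩ := Finset.mem_image.1 hv
              rcases (by have := Finset.mem_range.1 hi; omega : i = 0 ∨ i = 1) with rfl | rfl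
              · exact absurd (pow_zero u) hv1
              · exact pow_one u
            rw [hvu]; exact hvanish u hup hno
        rwa [Nat.card_zpowers, huo, ← hddef] at h
      have haP : a⁻¹ * u * a ∉ Subgroup.zpowers x := fun h => by
        have h1 := Subgroup.orderOf_dvd_natCard _ h
        rw [Nat.card_zpowers, c.S.hx, show a⁻¹ * u * a = MulAut.conj a⁻¹ u by simp,
          MulEquiv.orderOf_eq, huo] at h1
        have := (Nat.prime_dvd_prime_iff_eq Nat.prime_two hp.out).1 h1
        omega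
      obtain ⟨z, -, h, hh, hh1, hzh, -⟩ := c.S.exists_conj_H ha haP
      refine ⟨a * z, ?_⟩
      rw [← hHs h hh hh1, show a * z * h * (a * z)⁻¹ = a * (z * h * z⁻¹) * a⁻¹ by group, ← hzh]
      group
    set NS := Subgroup.normalizer ((S2 : Subgroup G) : Set G) with hNSdef
    letI : MulAction NS G := MulAction.compHom G (MulAut.conj.comp NS.subtype)
    have hsmul : ∀ (g : NS) (v : G), g • v = (g : G) * v * (g : G)⁻¹ := fun g v => rfl
    have horb : orbit NS s = {u | u ∈ NH ∧ u ≠ 1} := by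
      ext u
      constructor
      · rintro ⟨g, rfl⟩
        show g • s ∈ NH ∧ g • s ≠ 1
        rw [hsmul]
        refine ⟨?_, fun h => hsne (conj_eq_one_iff.1 h)⟩
        rw [← hS2]
        exact (Subgroup.mem_normalizer_iff.1 g.2 s).1 (by rw [hS2]; exact hsNH)
      · rintro ⟨hu, hu1⟩
        obtain ⟨b, hb⟩ := hconjs u (hNH2 u hu) hu1
        obtain ⟨m, hm, hm'⟩ := S2.conj_eq_normalizer_conj_of_mem s b⁻¹
          (show s ∈ (S2 : Subgroup G) by rw [hS2]; exact hsNH)
          (show b⁻¹⁻¹ * s * b⁻¹ ∈ (S2 : Subgroup G) by rw [inv_inv, hb, hS2]; exact hu)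
        refine ⟨⟨m⁻¹, inv_mem hm⟩, ?_⟩
        show m⁻¹ * s * m⁻¹⁻¹ = u
        rw [inv_inv, ← hm', inv_inv, hb]
    have hstab : stabilizer NS s = NH.subgroupOf NS := by
      ext g
      rw [mem_stabilizer_iff, Subgroup.mem_subgroupOf, hsmul, mul_inv_eq_iff_eq_mul]
      exact ⟨hCs _, fun hg => hNHcomm _ hg _ hsNH⟩
    haveI : Fintype NS := Fintype.ofFinite _
    have h1 := card_orbit_mul_card_stabilizer_eq_card_group NS s
    rw [← Nat.card_eq_fintype_card, ← Nat.card_eq_fintype_card, ← Nat.card_eq_fintype_card,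
      hstab, Nat.card_congr (Subgroup.subgroupOfEquivOfLe
        (show NH ≤ NS by rw [hNSdef, hS2]; exact Subgroup.le_normalizer)).toEquiv,
      Nat.card_congr (Equiv.setCongr horb)] at h1
    have horbc : Nat.card {u : G | u ∈ NH ∧ u ≠ 1} = p - 2 := by
      have h2 : {u : G | u ∈ NH ∧ u ≠ 1} = (NH : Set G) \ {1} := rfl
      have h3 : (NH : Set G).ncard = 2 * D.t := by
        rw [← Nat.card_coe_set_eq, ← he2, htn]
        exact hNH
      rw [h2, Nat.card_coe_set_eq, Set.ncard_sdiff_singleton_of_mem (SetLike.mem_coe.2 (one_mem NH)),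
        h3]
      omega
    rw [horbc, hNH, he2, ← htn] at h1
    have hNSi : NS.index = p := by
      have h2 := NS.card_mul_index
      rw [← h1, c.card_G, ← hd, he2, hd2] at h2
      refine Nat.eq_of_mul_eq_mul_left (show 0 < (p - 2) * (2 * D.t) from Nat.mul_pos (by omega)
        (by have := D.t_pos; omega)) ?_
      rw [h2]; ring
    haveI : Fintype (G ⧸ NS) := Fintype.ofFinite _
    have hα : Fintype.card (G ⧸ NS) = p := by
      rw [← Nat.card_eq_fintype_card, ← Subgroup.index, hNSi]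
    set φ : G →* Equiv.Perm (G ⧸ NS) := MulAction.toPermHom G (G ⧸ NS)
    have hinj : Function.Injective φ := by
      rw [← MonoidHom.ker_eq_bot_iff]
      refine c.hcore _ inferInstance fun hdvd => ?_
      have hle : φ.ker ≤ NS := fun g hg => by
        have h := Equiv.ext_iff.1 (MonoidHom.mem_ker.1 hg) ((1 : G) : G ⧸ NS)
        have h' : ((g * 1 : G) : G ⧸ NS) = ((1 : G) : G ⧸ NS) := h
        rw [mul_one, eq_comm, QuotientGroup.eq] at h'
        simpa using h'
      have h2 : p ∣ (p - 2) * (2 * D.t) := by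
        rw [h1]; exact hdvd.trans (Subgroup.card_dvd_of_le hle)
      rcases (Nat.Prime.dvd_mul hp.out).1 h2 with h3 | h3
      · have := Nat.le_of_dvd (by omega) h3; omega
      · have := Nat.le_of_dvd (by omega) h3; omega
    let iso : G ≃* φ.range := MonoidHom.ofInjective hinj
    have hcP : Nat.card ((Subgroup.zpowers x).map iso.toMonoidHom) =
        p ^ (Nat.card φ.range).factorization p := by
      rw [Subgroup.card_map_of_injective (f := iso.toMonoidHom) iso.injective, Nat.card_zpowers, c.S.hx,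
        ← Nat.card_congr iso.toEquiv, c.card_G, he2, Nat.factorization_mul (by omega) (by omega),
        Finsupp.add_apply, Nat.factorization_mul hp.out.ne_zero (by norm_num), Finsupp.add_apply,
        hp.out.factorization_self, Nat.factorization_eq_zero_of_not_dvd (fun h => by
          have h5 : p ∣ 1 := (Nat.dvd_add_left (dvd_mul_left p n)).1 h
          exact hp.out.not_dvd_one h5),
        Nat.factorization_eq_zero_of_not_dvd (fun h => by
          have := Nat.le_of_dvd (by norm_num) h; omega), zero_add, add_zero, pow_one]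
    let Q : Sylow p φ.range := Sylow.ofCard _ hcP
    have hQN : Nat.card (Subgroup.normalizer ((Q : Subgroup φ.range) : Set φ.range)) = 2 * p := by
      rw [show ((Q : Subgroup φ.range)) = (Subgroup.zpowers x).map iso.toMonoidHom from
        Sylow.coe_ofCard _ _, ← Subgroup.map_equiv_normalizer_eq,
        Subgroup.card_map_of_injective (f := iso.toMonoidHom) iso.injective, c.S.card_normalizer, he2, mul_comm]
    rcases S4706.result (by omega) hα φ.range Q hQN with hn | ⟨a, F, iF, iFt, hpa, hF, ⟨e⟩⟩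
    · exfalso
      have hnX : (nX x).index = 1 := by
        rw [Subgroup.index_eq_one, Subgroup.normalizer_eq_top_iff]
        have h := hn.comap iso.toMonoidHom
        rwa [show (Q : Subgroup φ.range) = (Subgroup.zpowers x).map iso.toMonoidHom from
          Sylow.coe_ofCard _ _, Subgroup.comap_map_eq_self_of_injective (f := iso.toMonoidHom) iso.injective] at h
      rw [c.hidx] at hnX
      have : 0 < n * p := Nat.mul_pos (by omega) hp.out.pos
      omega
    · exact ⟨a, F, iF, iFt, hpa, by omega, hF, ⟨iso.trans e⟩⟩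
  · -- the odd case is impossible
    exfalso
    have hm : ¬ 2 ∣ D.e / 2 := by omega
    have hm1 : 1 < D.e / 2 := by
      have h : 0 < t4 * c.Xp.card := Nat.mul_pos (by omega) (Nat.pos_of_ne_zero hA0)
      omega
    set ℓ := (D.e / 2).minFac with hℓdef
    have hℓ : ℓ.Prime := Nat.minFac_prime (by omega)
    have hℓ2 : ℓ ≠ 2 := fun h => hm (by
      have h1 := Nat.minFac_dvd (D.e / 2); rw [← hℓdef, h] at h1; exact h1)
    have hℓ3 : 3 ≤ ℓ := by have := hℓ.two_le; omega
    have hℓe : ℓ ∣ D.e := (Nat.minFac_dvd _).trans (Nat.div_dvd_of_dvd ⟨1 + 2 * (t4 * c.Xp.card),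
      by rw [he4]; ring⟩)
    obtain ⟨h₀, hh₀⟩ := IsCyclic.exists_generator (α := c.S.H)
    have hh₀o : orderOf h₀ = D.e := by
      rw [orderOf_eq_card_of_forall_mem_zpowers hh₀, c.S.cardH]
    have hom_ext : ∀ l μ : IrrCharacter c.S.H,
        (l : c.S.H → ℂ) h₀ = (μ : c.S.H → ℂ) h₀ → l = μ := fun l μ h => by
      obtain ⟨f, hf⟩ := Chars.exists_hom_of_degree_one (Chars.irr_isCharacter l) (c.S.l_one l)
      obtain ⟨g, hg⟩ := Chars.exists_hom_of_degree_one (Chars.irr_isCharacter μ) (c.S.l_one μ)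
      refine Subtype.ext (funext fun v => ?_)
      obtain ⟨i, rfl⟩ := hh₀ v
      rw [hf, hg] at h ⊢
      simp only at h ⊢
      rw [map_zpow, map_zpow, Units.ext h]
    have hpow : ∀ (l : IrrCharacter c.S.H) (v : c.S.H) (i : ℕ),
        (l : c.S.H → ℂ) (v ^ i) = (l : c.S.H → ℂ) v ^ i := fun l v i => by
      obtain ⟨f, hf⟩ := Chars.exists_hom_of_degree_one (Chars.irr_isCharacter l) (c.S.l_one l)
      simp [hf]
    have hsq : ∀ g ∈ NH, g ^ 2 ∈ c.S.H := by
      intro g hg
      obtain ⟨i, m, hm', hgm⟩ :=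
        Nat.exists_eq_pow_mul_and_not_dvd (orderOf_pos g).ne' 2 (by norm_num)
      have hm0 : m ≠ 0 := fun h => hm' (h ▸ dvd_zero 2)
      have h2m : g ^ (2 * m) = 1 := by
        rw [mul_comm, pow_mul]
        refine hexp (g ^ m) i ?_
        rw [orderOf_pow_of_dvd hm0 (Dvd.intro_left _ hgm.symm), hgm,
          Nat.mul_div_cancel _ (Nat.pos_of_ne_zero hm0)]
      have hyo : orderOf (g ^ 2) ∣ m := orderOf_dvd_of_pow_eq_one (by rw [← pow_mul]; exact h2m)
      set H' := c.S.H.subgroupOf NH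
      haveI : H'.Normal := Subgroup.normal_in_normalizer
      have hidx : H'.index = D.t := by
        have h := H'.card_mul_index
        rw [Nat.card_congr (Subgroup.subgroupOfEquivOfLe Subgroup.le_normalizer).toEquiv,
          c.S.cardH, hNH, ← htn] at h
        exact Nat.eq_of_mul_eq_mul_left D.e_pos h
      have hyt : (g ^ 2) ^ D.t ∈ c.S.H := by
        have h := H'.pow_index_mem ⟨g ^ 2, pow_mem hg 2⟩
        rw [hidx, Subgroup.mem_subgroupOf] at h
        exact h
      have hcop : Nat.Coprime (orderOf (g ^ 2)) D.t := by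
        rw [htpow]
        refine Nat.Coprime.pow_right k (Nat.Coprime.coprime_dvd_left hyo ?_)
        exact (Nat.prime_two.coprime_iff_not_dvd.2 hm').symm
      obtain ⟨j, hj⟩ := exists_pow_eq_self_of_coprime hcop.symm
      rw [← hj]
      exact pow_mem hyt j
    -- the two sets of conjugates
    have hbound : ∀ l : IrrCharacter c.S.H, l ≠ c.S.triv → l ∉ Lam →
        (l : c.S.H → ℂ) h₀ ^ ℓ = 1 → False := by
      intro l hl hlY hlℓ
      have hmem : l ∈ c.Xp.biUnion c.occ ∪ Lam := by
        rw [hUeq]; exact Finset.mem_erase.2 ⟨hl, Finset.mem_univ _⟩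
      obtain ⟨ψ, hψ, hlψ⟩ := Finset.mem_biUnion.1 ((Finset.mem_union.1 hmem).resolve_right hlY)
      set ζ := (l : c.S.H → ℂ) h₀ with hζ
      have hζ0 : ζ ≠ 0 := fun h => by
        rw [h, zero_pow hℓ.ne_zero] at hlℓ; exact zero_ne_one hlℓ
      have hsub : (c.occ ψ).image (fun μ : IrrCharacter c.S.H => (μ : c.S.H → ℂ) h₀) ⊆
          ({ζ, ζ⁻¹} : Finset ℂ) := by
        intro z hz
        obtain ⟨μ, hμ, rfl⟩ := Finset.mem_image.1 hz
        have hne : classInner (c.S.cf (c.S.ind l)) (μ : c.S.H → ℂ) ≠ 0 := by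
          rw [c.ind_eq_X hψ hlψ]; exact c.mem_occ.1 hμ
        obtain ⟨g, hg, hμg⟩ := c.S.exists_conj_of_mult c.he2 hk (congrFun hπ 1) l μ hne
        have hgH : ∀ v : c.S.H, g⁻¹ * (v : G) * g ∈ c.S.H := fun v =>
          (Subgroup.mem_normalizer_iff''.1 hg v).1 v.2
        set h₁ : c.S.H := ⟨g⁻¹ * (h₀ : G) * g, hgH h₀⟩ with hh₁
        rw [hμg h₀ (hgH h₀)]
        obtain ⟨a, ha⟩ : ∃ a : ℕ, h₀ ^ a = h₁ := by
          have h := hh₀ h₁
          rw [mem_zpowers_iff_mem_range_orderOf, Finset.mem_image] at h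
          obtain ⟨a, -, ha⟩ := h
          exact ⟨a, ha⟩
        have haa : h₀ ^ (a * a) = h₀ := by
          refine Subtype.ext ?_
          have h1 : (h₀ : G) ^ a = g⁻¹ * (h₀ : G) * g := by
            rw [← SubmonoidClass.coe_pow, ha]
          have hg2 : (g ^ 2)⁻¹ * (h₀ : G) * g ^ 2 = (h₀ : G) := by
            have h2 := congrArg Subtype.val (c.S.mul_comm_H h₀ ⟨g ^ 2, hsq g hg⟩)
            simp only [Subgroup.coe_mul] at h2
            rw [mul_assoc, h2, inv_mul_cancel_left]
          rw [SubmonoidClass.coe_pow, pow_mul, h1,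
            show g⁻¹ * (h₀ : G) * g = g⁻¹ * (h₀ : G) * (g⁻¹)⁻¹ by rw [inv_inv], conj_pow, h1,
            inv_inv]
          conv_rhs => rw [← hg2, pow_two]
          simp only [mul_inv_rev, mul_assoc]
        have hza : ζ ^ (a * a) = ζ := by
          rw [hζ, ← hpow, haa]
        rw [Finset.mem_insert, Finset.mem_singleton]
        rw [show (l : c.S.H → ℂ) h₁ = ζ ^ a by rw [← ha, hpow]]
        by_cases hζ1 : ζ = 1
        · left; rw [hζ1, one_pow]
        set u : ℂˣ := Units.mk0 ζ hζ0 with hu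
        have hoζ : orderOf u = ℓ := by
          rw [← orderOf_units, hu, Units.val_mk0]
          haveI := Fact.mk hℓ
          exact orderOf_eq_prime hlℓ hζ1
        have hda : (ℓ : ℤ) ∣ ((a : ℤ) - 1) * ((a : ℤ) + 1) := by
          have hu' : u ^ (a * a) = u ^ 1 := Units.ext (by simpa [hu] using hza)
          have h := pow_eq_pow_iff_modEq.1 hu'
          rw [hoζ, Nat.modEq_iff_dvd] at h
          push_cast at h
          rw [show ((a : ℤ) - 1) * ((a : ℤ) + 1) = -(1 - (a : ℤ) * a) by ring]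
          exact dvd_neg.2 h
        rcases (Nat.prime_iff_prime_int.1 hℓ).dvd_mul.1 hda with h | h
        · left
          have hu' : u ^ a = u ^ 1 := by
            rw [pow_eq_pow_iff_modEq, hoζ, Nat.modEq_iff_dvd]
            push_cast
            rw [← neg_sub]; exact dvd_neg.2 h
          simpa [hu] using congrArg Units.val hu'
        · right
          have hu' : u ^ (a + 1) = 1 := by
            rw [← orderOf_dvd_iff_pow_eq_one, hoζ]
            exact_mod_cast h
          refine eq_inv_of_mul_eq_one_left ?_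
          rw [← pow_succ]
          simpa [hu] using congrArg Units.val hu'
      have h1 := Finset.card_le_card hsub
      rw [Finset.card_image_of_injective _ (fun μ μ' h => hom_ext μ μ' h), c.card_occ_X hψ] at h1
      have h2 : ({ζ, ζ⁻¹} : Finset ℂ).card ≤ 2 := Finset.card_le_two
      omega
    -- two characters of order `ℓ`
    set ω := Complex.exp (2 * Real.pi * Complex.I / ℓ) with hω
    have hωp : IsPrimitiveRoot ω ℓ := Complex.isPrimitiveRoot_exp ℓ hℓ.ne_zero
    have hmk : ∀ z : ℂ, z ^ ℓ = 1 → ∃ l : IrrCharacter c.S.H, (l : c.S.H → ℂ) h₀ = z := by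
      intro z hz
      have hz0 : z ≠ 0 := fun h => by rw [h, zero_pow hℓ.ne_zero] at hz; exact zero_ne_one hz
      have hdvd : orderOf (Units.mk0 z hz0) ∣ orderOf h₀ := by
        rw [hh₀o, ← orderOf_units, Units.val_mk0]
        exact (orderOf_dvd_of_pow_eq_one hz).trans hℓe
      refine ⟨⟨fun v => (monoidHomOfForallMemZpowers hh₀ hdvd v : ℂ),
        Chars.isIrrCharacter_hom _⟩, ?_⟩
      show (monoidHomOfForallMemZpowers hh₀ hdvd h₀ : ℂ) = z
      rw [monoidHomOfForallMemZpowers_apply_gen, Units.val_mk0]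
    have hω2 : ω ^ 2 ≠ 1 := hωp.pow_ne_one_of_pos_of_lt two_ne_zero (by omega)
    obtain ⟨l₁, hl₁⟩ := hmk ω hωp.pow_eq_one
    obtain ⟨l₂, hl₂⟩ := hmk (ω ^ 2) (by rw [← pow_mul, mul_comm, pow_mul, hωp.pow_eq_one, one_pow])
    have ht1 : l₁ ≠ c.S.triv := fun h => hωp.ne_one (by omega) (by rw [← hl₁, h]; rfl)
    have ht2 : l₂ ≠ c.S.triv := fun h => hω2 (by rw [← hl₂, h]; rfl)
    by_cases h1 : l₁ ∈ Lam
    · refine hbound l₂ ht2 (fun h2 => hωp.ne_one (by omega) ?_) ?_
      · rw [hlE, Finset.mem_singleton] at h1 h2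
        have h3 : ω ^ 2 = ω := by rw [← hl₂, ← hl₁, h1, h2]
        have h4 : ω * (ω - 1) = 0 := by linear_combination h3
        exact sub_eq_zero.1 ((mul_eq_zero.1 h4).resolve_left (hωp.ne_zero hℓ.ne_zero))
      · rw [hl₂, ← pow_mul, mul_comm, pow_mul, hωp.pow_eq_one, one_pow]
    · exact hbound l₁ ht1 h1 (by rw [hl₁, hωp.pow_eq_one])

end Ctx

/-- The core theorem. -/
theorem core (hperf : commutator G = ⊤) (P : Sylow p G) (hP : Nat.card P = p)
    (hcore : ∀ K : Subgroup G, K.Normal → ¬ p ∣ Nat.card K → K = ⊥)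
    (hF : ¬ Formula p (Nat.card (Sylow p G))) :
    (3 < p ∧ Nonempty (G ≃* Matrix.ProjectiveSpecialLinearGroup (Fin 2) (ZMod p))) ∨
      ∃ (a : ℕ) (F : Type) (_ : Field F) (_ : Fintype F), p = 2 ^ a + 1 ∧ 3 < p ∧
        Fintype.card F = 2 ^ a ∧ Nonempty (G ≃* Matrix.SpecialLinearGroup (Fin 2) F) := by
  classical
  have he2' := two_le_relIndex_of_perfect hperf P hP
  have hdvd := Chars.SimpleDeg.relIndex_dvd_pred P hP
  have hodd : p ≠ 2 := fun h => by
    have := Nat.le_of_dvd (by have := hp.out.two_le; omega) hdvd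
    omega
  have hp2 := hp.out.two_le
  obtain ⟨x, hx, hPx, ⟨D⟩⟩ := exists_pdata hodd P hP
  have hCeq : Subgroup.centralizer ((P : Subgroup G) : Set G) = Subgroup.centralizer ({x} : Set G) := by
    rw [hPx, Subgroup.zpowers_eq_closure, Subgroup.centralizer_closure]
  rw [hPx] at he2'
  have he2 : 2 ≤ D.e := by
    rw [← D.relIndex]
    rw [hPx] at hCeq
    rwa [hCeq] at he2'
  have hidx : Nat.card (Sylow p G) = (nX x).index := by
    rw [P.card_eq_index_normalizer]
    show (Subgroup.normalizer ((P : Subgroup G) : Set G)).index = _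
    rw [hPx]
  obtain ⟨n, hn⟩ : ∃ n, (nX x).index = 1 + n * p := by
    have h := card_sylow_modEq_one p G
    rw [hidx] at h
    refine ⟨(nX x).index / p, ?_⟩
    have h1 := Nat.div_add_mod (nX x).index p
    rw [Nat.ModEq, Nat.mod_eq_of_lt hp.out.one_lt] at h
    rw [mul_comm ((nX x).index / p) p]
    omega
  have hn1 : 1 ≤ n := by
    by_contra h0
    refine one_lt_sylow_count hperf P hP ?_
    rw [← Subgroup.normalizer_eq_top_iff, hPx, ← Subgroup.index_eq_one]
    rw [show n = 0 by omega, zero_mul, add_zero] at hn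
    exact hn
  rw [hidx, hn] at hF
  obtain ⟨Xp, hsub, h1n, hplus, hcase⟩ := degrees hperf hx D he2 hn1 hn hF
  have het := D.mul_et
  have hep : D.e < p := by
    have h : D.e ≤ D.e * D.t := Nat.le_mul_of_pos_right _ D.t_pos
    omega
  have hC : Subgroup.centralizer ({x} : Set G) = Subgroup.zpowers x := by
    rcases hcase with ⟨-, -, -, μ, hμX, hμε, hμd⟩ | ⟨hW, -, -, hdeg⟩
    · refine centralizer_eq P hPx hcore hx hμd (fun y hy hy1 c hc hcp => ?_)
        ⟨x, Subgroup.mem_zpowers x, fun h => ?_⟩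
      · rw [D.X_value μ hμX y hy hy1 c hc hcp]
        have h := D.X_value μ hμX y hy hy1 1 (Subgroup.one_mem _)
          (by rw [orderOf_one]; exact hp.out.not_dvd_one)
        rw [mul_one] at h
        exact h.symm
      · have h1 := D.X_value μ hμX x (Subgroup.mem_zpowers x)
          (fun h => hp.out.ne_one (by rw [← hx, h, orderOf_one])) 1 (Subgroup.one_mem _)
          (by rw [orderOf_one]; exact hp.out.not_dvd_one)
        rw [mul_one, h, hμε, apply_one_eq_deg] at h1
        have h2 : (charDegree (μ : G → ℂ) : ℤ) = -1 := by exact_mod_cast h1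
        omega
    · obtain ⟨θ, hθ⟩ := D.exists_Y
      refine centralizer_eq P hPx hcore hx (χ := θ) (by rw [hdeg θ hθ]; exact hep)
        (D.Y_value θ hθ) ?_
      by_contra hno
      push Not at hno
      have h := D.Y_sumP θ hθ
      rw [Finset.sum_congr rfl fun i _ => hno _ (Subgroup.pow_mem _ (Subgroup.mem_zpowers x) i),
        Finset.sum_const, Nat.card_Ico, nsmul_eq_mul, apply_one_eq_deg, hdeg θ hθ, hW,
        ← Nat.cast_mul] at h
      have h2 : (((p - 1) * D.e : ℕ) : ℤ) = (D.e : ℤ) * (-1) := by exact_mod_cast h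
      have h3 : (0 : ℤ) ≤ (((p - 1) * D.e : ℕ) : ℤ) := Int.natCast_nonneg _
      omega
  obtain ⟨S⟩ := exists_split hx hC ⟨D.t, het.symm⟩ D.relIndex
  let c : Ctx p n x D := ⟨S, Xp, hperf, hcore, he2, hn1, hn, hsub, h1n, hplus⟩
  rcases hcase with ⟨hW, hA, hdY, -⟩ | ⟨hW, ht2, hA, hdeg⟩
  · rcases eq_or_lt_of_le hn1 with hn' | hn'
    · refine Or.inl ?_
      have ht : D.t = 1 ∨ D.t = 2 := by
        have h : D.t ∣ 2 := by
          have h1 : D.t ∣ (n + 1) * (1 + D.t * Xp.card) :=
            (Nat.dvd_add_left dvd_rfl).1 (by rw [hA]; exact Dvd.intro_left _ het)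
          rw [← hn', show (1 + 1) * (1 + D.t * Xp.card) = 2 + D.t * (2 * Xp.card) by ring] at h1
          exact (Nat.dvd_add_left (dvd_mul_right _ _)).1 h1
        exact (Nat.dvd_prime Nat.prime_two).1 h
      have hhalf : 2 * D.e = p - 1 := by
        rcases ht with h | h
        · exfalso
          rw [← hn', h] at hA
          have := hp.out.eq_two_or_odd
          omega
        · rw [← het, h, mul_comm]
      exact ⟨by omega, c.case_one hn'.symm hhalf⟩
    · exact Or.inr (c.case_many (by omega) hW hA hdY)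
  · have hb := c.minus_bound hW hdeg
    have hAe : Xp.card * (n + 1) + 1 = D.e := hA
    have hb' : 1 + Xp.card * (1 + n * p) ≤ D.e * D.e := hb
    have h2e : 2 * D.e + 1 ≤ p := by
      have : D.e * 2 ≤ D.e * D.t := Nat.mul_le_mul_left _ ht2
      omega
    have hA1 : 1 ≤ Xp.card := by
      rcases Nat.eq_zero_or_pos Xp.card with h | h
      · rw [h] at hAe; omega
      · exact h
    have h1 : 1 + n * p ≤ (n + 1) * (D.e + 1) := by
      refine Nat.le_of_mul_le_mul_left ?_ hA1
      have h2 : D.e * D.e = Xp.card * ((n + 1) * (D.e + 1)) + 1 := by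
        rw [← hAe]; ring
      omega
    have hn' : n = 1 := by
      have h2 : n * (2 * D.e + 1) ≤ n * p := Nat.mul_le_mul_left _ h2e
      have h3 : n * D.e ≤ 1 * D.e := by nlinarith
      have := Nat.le_of_mul_le_mul_right h3 (by omega)
      omega
    refine Or.inl ?_
    have hhalf : 2 * D.e = p - 1 := by
      rw [hn'] at h1
      omega
    exact ⟨by omega, c.case_one hn' hhalf⟩

end Cfsg.Agent.Screen.BrauerP
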