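import Cfsg.Agent.Screen.BrauerP.Local

/-!
The monomial characters on the complement: fixed cosets and the conjugates of a linear character.
-/

set_option autoImplicit false
set_option linter.unusedSectionVars false
set_option linter.style.haveILetI false

namespace Cfsg.Agent.Screen.BrauerP

open Cfsg Cfsg.Agent MulAction
open scoped ComplexConjugate

universe u

variable {G : Type u} [Group G] [Fintype G] {p e : ℕ} [hp : Fact p.Prime] {x : G}

namespace Split

variable (S : Split p e x)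
include S

/-- The trivial character of the complement. -/
noncomputable def triv : IrrCharacter S.H := ⟨fun _ => 1, Chars.isIrrCharacter_one⟩

/-- The cosets of the normalizer fixed by the whole complement. -/
def fixedSet : Set (G ⧸ nX x) := {q | ∀ h ∈ S.H, h • q = q}

theorem ind_triv (g : G) :
    S.ind S.triv g = (Nat.card {q : G ⧸ nX x // g • q = q} : ℂ) :=
  Chars2.indFun_one_apply (nX x) g

theorem one_mem_fixedSet : ((1 : G) : G ⧸ nX x) ∈ S.fixedSet := fun h hh => by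
  show ((h * 1 : G) : G ⧸ nX x) = ((1 : G) : G ⧸ nX x)
  rw [mul_one]
  exact (QuotientGroup.eq.2 (by simpa using S.le hh)).symm

theorem smul_mk_eq_iff {g a : G} :
    g • ((a : G) : G ⧸ nX x) = ((a : G) : G ⧸ nX x) ↔ a⁻¹ * g * a ∈ nX x := by
  show ((g * a : G) : G ⧸ nX x) = _ ↔ _
  rw [eq_comm, QuotientGroup.eq, mul_assoc]

/-- If all nontrivial elements of the complement fix the same number of cosets, they fix the same
cosets, and the normalizer of the complement is transitive on them. -/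
theorem fixed_data (he : 2 ≤ e) {k : ℕ}
    (hk : ∀ h ∈ S.H, h ≠ 1 → Nat.card {q : G ⧸ nX x // h • q = q} = k) :
    Nat.card S.fixedSet = k ∧
      (∀ h ∈ S.H, h ≠ 1 → ∀ q : G ⧸ nX x, h • q = q → q ∈ S.fixedSet) ∧
      (∀ q ∈ S.fixedSet, ∃ g ∈ Subgroup.normalizer (S.H : Set G), ((g : G) : G ⧸ nX x) = q) ∧
      Nat.card (Subgroup.normalizer (S.H : Set G)) = e * k := by
  classical
  haveI := S.cyclic
  obtain ⟨h₀, hh₀⟩ := IsCyclic.exists_generator (α := S.H)
  have hord : orderOf h₀ = e := by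
    rw [orderOf_eq_card_of_forall_mem_zpowers hh₀, S.cardH]
  have hne : (h₀ : G) ≠ 1 := fun h => by
    have : h₀ = 1 := Subtype.ext h
    rw [this, orderOf_one] at hord
    omega
  have hfix0 : ∀ q : G ⧸ nX x, (h₀ : G) • q = q → q ∈ S.fixedSet := fun q hq h hh => by
    obtain ⟨i, hi⟩ := hh₀ ⟨h, hh⟩
    have h1 : (h₀ : G) ^ i ∈ stabilizer G q := zpow_mem (mem_stabilizer_iff.2 hq) i
    have h2 : (h₀ : G) ^ i = h := by rw [← Subgroup.coe_zpow]; exact congrArg Subtype.val hi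
    rw [h2] at h1
    exact h1
  have hset0 : S.fixedSet = {q : G ⧸ nX x | (h₀ : G) • q = q} :=
    Set.ext fun q => ⟨fun hq => hq _ h₀.2, hfix0 q⟩
  have hcard : Nat.card S.fixedSet = k := by
    rw [hset0]; exact hk _ h₀.2 hne
  have hall : ∀ h ∈ S.H, h ≠ 1 → ∀ q : G ⧸ nX x, h • q = q → q ∈ S.fixedSet := by
    intro h hh hh1 q hq
    have hsub : S.fixedSet ⊆ {q : G ⧸ nX x | h • q = q} := fun q hq => hq h hh
    have heq : S.fixedSet = {q : G ⧸ nX x | h • q = q} := by
      refine Set.eq_of_subset_of_ncard_le hsub ?_ (Set.toFinite _)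
      rw [← Nat.card_coe_set_eq, ← Nat.card_coe_set_eq, hcard]
      exact le_of_eq (hk h hh hh1)
    rw [heq]; exact hq
  have htrans : ∀ q ∈ S.fixedSet, ∃ g ∈ Subgroup.normalizer (S.H : Set G),
      ((g : G) : G ⧸ nX x) = q := by
    intro q hq
    obtain ⟨a, rfl⟩ := QuotientGroup.mk_surjective q
    have hm : ∀ h ∈ S.H, a⁻¹ * h * a ∈ nX x := fun h hh => S.smul_mk_eq_iff.1 (hq h hh)
    have hP : a⁻¹ * (h₀ : G) * a ∉ Subgroup.zpowers x := fun hy => by
      have h1 := Subgroup.orderOf_dvd_natCard _ hy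
      rw [Nat.card_zpowers, S.hx, show a⁻¹ * (h₀ : G) * a = MulAut.conj a⁻¹ (h₀ : G) by simp,
        MulEquiv.orderOf_eq, Subgroup.orderOf_coe, hord] at h1
      rcases (Nat.dvd_prime hp.out).1 h1 with h2 | h2
      · omega
      · exact S.not_dvd (h2 ▸ dvd_rfl)
    obtain ⟨z, hz, h, hh, -, hzh, -⟩ := S.exists_conj_H (hm _ h₀.2) hP
    refine ⟨a * z, ?_, ?_⟩
    · have hord' : orderOf (⟨h, hh⟩ : S.H) = e := by
        rw [← Subgroup.orderOf_coe, ← MulEquiv.orderOf_eq (MulAut.conj z) h, MulAut.conj_apply,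
          ← hzh, show a⁻¹ * (h₀ : G) * a = MulAut.conj a⁻¹ (h₀ : G) by simp, MulEquiv.orderOf_eq,
          Subgroup.orderOf_coe, hord]
      have htop : Subgroup.zpowers (⟨h, hh⟩ : S.H) = ⊤ :=
        Subgroup.eq_top_of_card_eq _ (by rw [Nat.card_zpowers, hord', S.cardH])
      have hzp : Subgroup.zpowers h = S.H := by
        have h1 := congrArg (Subgroup.map S.H.subtype) htop
        rw [MonoidHom.map_zpowers, ← MonoidHom.range_eq_map, Subgroup.range_subtype] at h1
        exact h1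
      have hzp0 : Subgroup.zpowers (h₀ : G) = S.H := by
        have h1 : Subgroup.zpowers h₀ = ⊤ := by
          rw [eq_top_iff]; exact fun g _ => hh₀ g
        have h2 := congrArg (Subgroup.map S.H.subtype) h1
        rw [MonoidHom.map_zpowers, ← MonoidHom.range_eq_map, Subgroup.range_subtype] at h2
        exact h2
      have hconj : (a * z) * h * (a * z)⁻¹ = h₀ := by
        rw [show (a * z) * h * (a * z)⁻¹ = a * (z * h * z⁻¹) * a⁻¹ by group, ← hzh]
        group
      have hmap : S.H.map (MulAut.conj (a * z)).toMonoidHom = S.H := by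
        conv_lhs => rw [← hzp, MonoidHom.map_zpowers]
        simp only [MulEquiv.coe_toMonoidHom, MulAut.conj_apply]
        rw [hconj, hzp0]
      rw [Subgroup.mem_normalizer_iff]
      intro w
      constructor
      · intro hw
        have h1 : (MulAut.conj (a * z)).toMonoidHom w ∈ S.H.map (MulAut.conj (a * z)).toMonoidHom :=
          ⟨w, hw, rfl⟩
        rw [hmap] at h1
        exact h1
      · intro hw
        rw [← hmap] at hw
        obtain ⟨v, hv, he⟩ := hw
        have : v = w := (MulAut.conj (a * z)).injective he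
        exact this ▸ hv
    · rw [QuotientGroup.eq]
      simpa [mul_assoc] using inv_mem (zpowers_le hz)
  refine ⟨hcard, hall, htrans, ?_⟩
  -- orbit-stabilizer
  set NH := Subgroup.normalizer (S.H : Set G) with hNH
  haveI : Fintype NH := Fintype.ofFinite _
  have horbit : orbit NH ((1 : G) : G ⧸ nX x) = S.fixedSet := by
    ext q
    constructor
    · rintro ⟨⟨g, hg⟩, rfl⟩ h hh
      show h • ((g * 1 : G) : G ⧸ nX x) = ((g * 1 : G) : G ⧸ nX x)
      rw [mul_one, S.smul_mk_eq_iff]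
      exact S.le ((Subgroup.mem_normalizer_iff''.1 hg h).1 hh)
    · intro hq
      obtain ⟨g, hg, rfl⟩ := htrans q hq
      exact ⟨⟨g, hg⟩, by show ((g * 1 : G) : G ⧸ nX x) = _; rw [mul_one]⟩
  have hstab : stabilizer NH ((1 : G) : G ⧸ nX x) = S.H.subgroupOf NH := by
    ext ⟨g, hg⟩
    rw [mem_stabilizer_iff, Subgroup.mem_subgroupOf]
    show g • ((1 : G) : G ⧸ nX x) = _ ↔ g ∈ S.H
    rw [S.smul_mk_eq_iff, inv_one, one_mul, mul_one]
    refine ⟨fun hgN => ?_, fun hgH => S.le hgH⟩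
    obtain ⟨y, hy, hyg⟩ := S.decomp hgN
    set h := (S.proj ⟨g, hgN⟩ : G)
    have hhH : h ∈ S.H := (S.proj ⟨g, hgN⟩).2
    have hyN : y ∈ NH := by
      rw [show y = g * h⁻¹ by rw [hyg]; group]
      exact mul_mem hg (inv_mem (Subgroup.le_normalizer hhH))
    by_cases hy1 : y = 1
    · rw [hyg, hy1, one_mul]; exact hhH
    exfalso
    -- the commutator of `y` and `h₀` lies in both subgroups
    have h1 : y * (h₀ : G) * y⁻¹ * (h₀ : G)⁻¹ ∈ S.H :=
      mul_mem ((Subgroup.mem_normalizer_iff.1 hyN _).1 h₀.2) (inv_mem h₀.2)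
    have h2 : y * (h₀ : G) * y⁻¹ * (h₀ : G)⁻¹ ∈ Subgroup.zpowers x := by
      rw [show y * (h₀ : G) * y⁻¹ * (h₀ : G)⁻¹ = y * ((h₀ : G) * y⁻¹ * (h₀ : G)⁻¹) by group]
      exact mul_mem hy ((Subgroup.mem_normalizer_iff.1 (S.le h₀.2) _).1 (inv_mem hy))
    have h3 := S.eq_one_of_mem h1 h2
    refine hne (S.eq_one_of_commute h₀.2 hy hy1 ?_)
    calc (h₀ : G) * y = (y * (h₀ : G) * y⁻¹ * (h₀ : G)⁻¹) * ((h₀ : G) * y) := by rw [h3, one_mul]
      _ = y * (h₀ : G) := by group
  have h1 := card_orbit_mul_card_stabilizer_eq_card_group NH ((1 : G) : G ⧸ nX x)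
  rw [← Nat.card_eq_fintype_card, ← Nat.card_eq_fintype_card, ← Nat.card_eq_fintype_card] at h1
  rw [hstab, Nat.card_congr (Subgroup.subgroupOfEquivOfLe Subgroup.le_normalizer).toEquiv,
    S.cardH, Nat.card_congr (Equiv.setCongr horbit), hcard, mul_comm] at h1
  exact h1.symm

/-- The conjugate of a character of the complement by an element normalising it. -/
theorem exists_conjChar {g : G} (hg : g ∈ Subgroup.normalizer (S.H : Set G))
    (l : IrrCharacter S.H) :
    ∃ μ : IrrCharacter S.H, ∀ h : S.H, (μ : S.H → ℂ) h =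
      (l : S.H → ℂ) ⟨g⁻¹ * h * g, (Subgroup.mem_normalizer_iff''.1 hg h).1 h.2⟩ := by
  let f : S.H →* S.H :=
    { toFun := fun h => ⟨g⁻¹ * h * g, (Subgroup.mem_normalizer_iff''.1 hg h).1 h.2⟩
      map_one' := Subtype.ext (by simp)
      map_mul' := fun a b => Subtype.ext (by
        show g⁻¹ * ((a : G) * b) * g = g⁻¹ * a * g * (g⁻¹ * b * g)
        group) }
  exact ⟨⟨fun h => (l : S.H → ℂ) (f h), Chars.isIrrCharacter_of_degree_one
    (Chars.isCharacter_comp (Chars.irr_isCharacter l) f) (by rw [map_one, S.l_one])⟩, fun h => rfl⟩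

/-- Every constituent of a monomial character on the complement is a conjugate of the inducing
character under the normalizer of the complement. -/
theorem exists_conj_of_mult (he : 2 ≤ e) {k : ℕ}
    (hk : ∀ h ∈ S.H, h ≠ 1 → Nat.card {q : G ⧸ nX x // h • q = q} = k)
    (htriv : S.cf (S.ind S.triv) 1 = (k : ℂ)) (l μ : IrrCharacter S.H)
    (hne : classInner (S.cf (S.ind l)) (μ : S.H → ℂ) ≠ 0) :
    ∃ g ∈ Subgroup.normalizer (S.H : Set G), ∀ h : S.H, ∀ hm : g⁻¹ * (h : G) * g ∈ S.H,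
      (μ : S.H → ℂ) h = (l : S.H → ℂ) ⟨g⁻¹ * h * g, hm⟩ := by
  classical
  obtain ⟨-, hall, htrans, -⟩ := S.fixed_data he hk
  set A := Finset.univ.filter fun a : G => ((a : G) : G ⧸ nX x) ∈ S.fixedSet with hA
  have hγ : ∀ a ∈ A, ∃ g ∈ Subgroup.normalizer (S.H : Set G), g⁻¹ * a ∈ nX x := fun a ha => by
    obtain ⟨g, hg, hga⟩ := htrans _ (Finset.mem_filter.1 ha).2
    exact ⟨g, hg, QuotientGroup.eq.1 hga⟩
  choose! γ hγ1 hγ2 using hγ
  choose! ν hν using fun (a : G) (ha : a ∈ A) (l : IrrCharacter S.H) =>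
    S.exists_conjChar (hγ1 a ha) l
  have hc : ∀ u v : S.H, u⁻¹ * v * u = v := fun u v => by
    rw [mul_assoc, S.mul_comm_H v u, inv_mul_cancel_left]
  have hval : ∀ l : IrrCharacter S.H, ∀ h : S.H, h ≠ 1 → S.ind l h =
      (Nat.card (nX x) : ℂ)⁻¹ * ∑ a ∈ A, (ν a l : S.H → ℂ) h := by
    intro l h hh
    have hh' : (h : G) ≠ 1 := fun h0 => hh (Subtype.ext h0)
    rw [ind, Chars.indFun_apply, Finset.sum_filter]
    congr 1
    refine Finset.sum_congr rfl fun a _ => ?_
    by_cases ha : ((a : G) : G ⧸ nX x) ∈ S.fixedSet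
    · have haA : a ∈ A := Finset.mem_filter.2 ⟨Finset.mem_univ a, ha⟩
      have hm : a⁻¹ * (h : G) * a ∈ nX x := S.smul_mk_eq_iff.1 (ha h h.2)
      rw [if_pos ha, Chars.extendByZero_of_mem _ _ hm, hν a haA l h]
      show (l : S.H → ℂ) (S.proj ⟨a⁻¹ * (h : G) * a, hm⟩) = _
      congr 1
      have hg : (γ a)⁻¹ * (h : G) * γ a ∈ S.H :=
        (Subgroup.mem_normalizer_iff''.1 (hγ1 a haA) _).1 h.2
      rw [show (⟨a⁻¹ * (h : G) * a, hm⟩ : nX x) =
          (⟨_, hγ2 a haA⟩ : nX x)⁻¹ * ⟨_, S.le hg⟩ * ⟨_, hγ2 a haA⟩ from Subtype.ext (by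
            show a⁻¹ * (h : G) * a = ((γ a)⁻¹ * a)⁻¹ * ((γ a)⁻¹ * (h : G) * γ a) * ((γ a)⁻¹ * a)
            group),
        map_mul, map_mul, map_inv, S.proj_H _ hg, hc]
    · rw [if_neg ha, Chars.extendByZero_of_not_mem]
      exact fun hm => ha (hall h h.2 hh' _ (S.smul_mk_eq_iff.2 hm))
  have hA0 : ∀ a ∈ A, ν a S.triv = S.triv := fun a ha =>
    Subtype.ext (funext fun h => (hν a ha S.triv h).trans rfl)
  haveI : Nontrivial S.H := Finite.one_lt_card_iff_nontrivial.1 (by rw [S.cardH]; omega)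
  obtain ⟨h₁, hh₁⟩ := exists_ne (1 : S.H)
  have hh₁' : (h₁ : G) ≠ 1 := fun h => hh₁ (Subtype.ext h)
  have hAk : (Nat.card (nX x) : ℂ)⁻¹ * (A.card : ℂ) = (k : ℂ) := by
    have h1 := hval S.triv h₁ hh₁
    rw [S.ind_triv, hk _ h₁.2 hh₁', Finset.sum_congr rfl fun a ha => by rw [hA0 a ha]] at h1
    rw [h1]
    simp [triv]
  have hone : ∀ l : IrrCharacter S.H, S.cf (S.ind l) 1 = S.cf (S.ind S.triv) 1 := fun l => by
    rw [S.cf_one_of_const (c := 1) fun y hy hy1 => S.ind_of_mem l hy hy1,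
      S.cf_one_of_const (c := 1) fun y hy hy1 => S.ind_of_mem S.triv hy hy1, S.ind_one, S.ind_one]
  have hcf : S.cf (S.ind l) = (Nat.card (nX x) : ℂ)⁻¹ • ∑ a ∈ A, (ν a l : S.H → ℂ) := by
    funext h
    rw [Pi.smul_apply, Finset.sum_apply, smul_eq_mul]
    by_cases hh : h = 1
    · subst hh
      rw [hone, htriv, ← hAk]
      congr 1
      rw [Finset.sum_congr rfl fun a _ => S.l_one (ν a l), Finset.sum_const, nsmul_eq_mul, mul_one]
    · rw [S.cf_of_ne _ hh, hval l h hh]
  rw [hcf, Chars.classInner_smul_left, Chars.classInner_sum_left, mul_ne_zero_iff] at hne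
  obtain ⟨a, ha, hne'⟩ := Finset.exists_ne_zero_of_sum_ne_zero hne.2
  refine ⟨γ a, hγ1 a ha, fun h hm => ?_⟩
  have : μ = ν a l := by
    by_contra h0
    exact hne' (Chars.classInner_irr_of_ne (ν a l).2 μ.2 fun h1 => h0 (Subtype.ext h1).symm)
  rw [this]
  exact hν a ha l h

end Split

end Cfsg.Agent.Screen.BrauerP
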