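import Cfsg.Agent.Screen.BrauerP.Tools
import Cfsg.Agent.Chars.Induced
import Cfsg.Agent.Chars2.PermChar
import Mathlib.GroupTheory.SchurZassenhaus

/-!
The normalizer of a self-centralizing subgroup of prime order, and the restriction of class
functions to its complement.
-/

set_option autoImplicit false
set_option linter.unusedSectionVars false
set_option linter.style.haveILetI false

namespace Cfsg.Agent.Screen.BrauerP

open Cfsg Cfsg.Agent
open scoped ComplexConjugate

universe u

variable {G : Type u} [Group G] [Fintype G] {p e : ℕ} [hp : Fact p.Prime] {x : G}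

/-- The normalizer of `⟨x⟩`. -/
abbrev nX (x : G) : Subgroup G := Subgroup.normalizer ((Subgroup.zpowers x : Subgroup G) : Set G)

/-- A complement in the normalizer of a self-centralizing subgroup of order `p`. -/
structure Split (p e : ℕ) (x : G) where
  /-- The complement. -/
  H : Subgroup G
  /-- The projection to the complement. -/
  proj : nX x →* H
  hx : orderOf x = p
  hC : Subgroup.centralizer ({x} : Set G) = Subgroup.zpowers x
  e_dvd : e ∣ p - 1
  le : H ≤ nX x
  cardH : Nat.card H = e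
  cyclic : IsCyclic H
  proj_H : ∀ (h : G) (hh : h ∈ H), proj ⟨h, le hh⟩ = ⟨h, hh⟩
  proj_ker : ∀ g : nX x, proj g = 1 ↔ (g : G) ∈ Subgroup.zpowers x

theorem exists_split (hx : orderOf x = p)
    (hC : Subgroup.centralizer ({x} : Set G) = Subgroup.zpowers x) (hed : e ∣ p - 1)
    (he : (Subgroup.centralizer ({x} : Set G)).relIndex (nX x) = e) :
    Nonempty (Split p e x) := by
  rw [hC] at he
  set N := nX x with hN
  set P := (Subgroup.zpowers x).subgroupOf N with hP
  haveI hPn : P.Normal := Subgroup.normal_in_normalizer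
  have hPN : Subgroup.zpowers x ≤ N := Subgroup.le_normalizer
  have hPc : Nat.card P = p := by
    rw [Nat.card_congr (Subgroup.subgroupOfEquivOfLe hPN).toEquiv, Nat.card_zpowers, hx]
  have hPi : P.index = e := he
  have hp1 : 0 < p - 1 := by have := hp.out.two_le; omega
  have hcop : Nat.Coprime p e := hp.out.coprime_iff_not_dvd.2 fun h => by
    have := Nat.le_of_dvd hp1 (h.trans hed)
    omega
  obtain ⟨K, hK⟩ := Subgroup.exists_left_complement'_of_coprime (N := P) (by rw [hPc, hPi]; exact hcop)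
  have hH : Nat.card (K.map N.subtype) = e := by
    rw [Subgroup.card_map_of_injective N.subtype_injective, ← hPi,
      ← hK.index_eq_card]
  let toH : K ≃* K.map N.subtype := K.equivMapOfInjective N.subtype N.subtype_injective
  let proj : N →* K.map N.subtype :=
    toH.toMonoidHom.comp (hK.QuotientMulEquiv.toMonoidHom.comp (QuotientGroup.mk' P))
  have hprojK : ∀ k : K, proj (k : N) = toH k := fun k => by
    show toH (hK.QuotientMulEquiv (QuotientGroup.mk (k : N))) = _
    exact congrArg toH (hK.QuotientMulEquiv.apply_symm_apply k)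
  have hker : ∀ g : N, proj g = 1 ↔ (g : G) ∈ Subgroup.zpowers x := fun g => by
    show toH (hK.QuotientMulEquiv (QuotientGroup.mk g)) = 1 ↔ _
    rw [map_eq_one_iff _ toH.injective, map_eq_one_iff _ hK.QuotientMulEquiv.injective,
      QuotientGroup.eq_one_iff, Subgroup.mem_subgroupOf]
  refine ⟨⟨K.map N.subtype, proj, hx, hC, hed, ?_, hH, ?_, ?_, hker⟩⟩
  · exact Subgroup.map_subtype_le K
  · -- cyclic
    haveI : IsCyclic (Subgroup.zpowers x) := inferInstance
    have hcard : Nat.card (Subgroup.zpowers x) = p := by rw [Nat.card_zpowers, hx]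
    haveI : IsCyclic (ZMod (Nat.card (Subgroup.zpowers x)))ˣ := by
      rw [hcard]; infer_instance
    haveI : IsCyclic (MulAut (Subgroup.zpowers x)) :=
      isCyclic_of_surjective (IsCyclic.mulAutMulEquiv (Subgroup.zpowers x)).symm.toMonoidHom
        (IsCyclic.mulAutMulEquiv (Subgroup.zpowers x)).symm.surjective
    haveI : IsCyclic K := by
      refine isCyclic_of_injective
        ((Subgroup.normalizerMonoidHom (Subgroup.zpowers x)).comp K.subtype) ?_
      rw [injective_iff_map_eq_one]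
      intro k hk
      have h1 : (k : N) ∈ (Subgroup.normalizerMonoidHom (Subgroup.zpowers x)).ker := hk
      rw [Subgroup.normalizerMonoidHom_ker, Subgroup.mem_subgroupOf] at h1
      have hcc : Subgroup.centralizer ((Subgroup.zpowers x : Subgroup G) : Set G) =
          Subgroup.zpowers x := by
        conv_lhs => rw [Subgroup.zpowers_eq_closure, Subgroup.centralizer_closure, hC]
      rw [hcc] at h1
      have h2 : proj (k : N) = 1 := (hker _).2 h1
      rw [hprojK] at h2
      exact (map_eq_one_iff _ toH.injective).1 h2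
    exact isCyclic_of_surjective toH.toMonoidHom toH.surjective
  · rintro h ⟨k, hk, rfl⟩
    exact hprojK ⟨k, hk⟩

namespace Split

theorem zpowers_le : Subgroup.zpowers x ≤ nX x := Subgroup.le_normalizer

theorem sum_pow_eq {f : G → ℂ} {c : ℂ}
    (hc : ∀ y ∈ Subgroup.zpowers x, y ≠ 1 → f y = c) (hx : orderOf x = p) :
    ∑ i ∈ Finset.range p, f (x ^ i) = f 1 + ((p : ℂ) - 1) * c := by
  have h2 := hp.out.two_le
  obtain ⟨k, hk⟩ : ∃ k, p = k + 1 := ⟨p - 1, by omega⟩
  rw [hk, Finset.sum_range_succ', pow_zero, Finset.sum_congr rfl (g := fun _ => c) fun i hi =>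
    hc _ (Subgroup.pow_mem _ (Subgroup.mem_zpowers x) _)
      (pow_ne_one_of_lt_orderOf (by omega) (by rw [hx, hk]; have := Finset.mem_range.1 hi; omega))]
  rw [Finset.sum_const, Finset.card_range, nsmul_eq_mul]
  push_cast
  ring

variable (S : Split p e x)
include S

theorem proj_pow {y : G} (hy : y ∈ Subgroup.zpowers x) : S.proj ⟨y, zpowers_le hy⟩ = 1 :=
  (S.proj_ker _).2 hy

theorem eq_one_of_mem {h : G} (hh : h ∈ S.H) (hy : h ∈ Subgroup.zpowers x) : h = 1 := by
  have h1 : S.proj ⟨h, S.le hh⟩ = 1 := (S.proj_ker _).2 hy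
  rw [S.proj_H h hh] at h1
  exact congrArg Subtype.val h1

theorem decomp {g : G} (hg : g ∈ nX x) :
    ∃ y ∈ Subgroup.zpowers x, g = y * (S.proj ⟨g, hg⟩ : G) := by
  refine ⟨g * (S.proj ⟨g, hg⟩ : G)⁻¹, ?_, by group⟩
  have h := S.proj_H _ (S.proj ⟨g, hg⟩).2
  have hm : g * (S.proj ⟨g, hg⟩ : G)⁻¹ ∈ nX x :=
    mul_mem hg (inv_mem (S.le (S.proj ⟨g, hg⟩).2))
  refine (S.proj_ker ⟨_, hm⟩).1 ?_
  rw [show (⟨_, hm⟩ : nX x) = ⟨g, hg⟩ * (⟨_, S.le (S.proj ⟨g, hg⟩).2⟩ : nX x)⁻¹ from rfl, map_mul,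
    map_inv, h]
  exact mul_inv_cancel _

theorem zpowers_eq {y : G} (hy : y ∈ Subgroup.zpowers x) (hy1 : y ≠ 1) :
    Subgroup.zpowers y = Subgroup.zpowers x := by
  refine Subgroup.eq_of_le_of_card_ge (Subgroup.zpowers_le.2 hy) ?_
  have h := Subgroup.orderOf_dvd_natCard _ hy
  rw [Nat.card_zpowers, S.hx] at h
  rw [Nat.card_zpowers, Nat.card_zpowers, S.hx,
    ((Nat.dvd_prime hp.out).1 h).resolve_left (fun h => hy1 (orderOf_eq_one_iff.1 h))]

/-- The elements normalising `⟨x⟩` are those carrying a nontrivial element of it into it. -/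
theorem mem_of_conj {y a : G} (hy : y ∈ Subgroup.zpowers x) (hy1 : y ≠ 1)
    (h : a⁻¹ * y * a ∈ Subgroup.zpowers x) : a ∈ nX x := by
  have h1 : a⁻¹ * y * a ≠ 1 := fun h0 => hy1 (by
    have := congrArg (fun z => a * z * a⁻¹) h0
    simpa [mul_assoc] using this)
  have h2 := S.zpowers_eq h h1
  have h3 : (Subgroup.zpowers x).map (MulAut.conj a⁻¹).toMonoidHom = Subgroup.zpowers x := by
    conv_lhs => rw [← S.zpowers_eq hy hy1, MonoidHom.map_zpowers]
    simp only [MulEquiv.coe_toMonoidHom, MulAut.conj_apply, inv_inv]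
    exact h2
  have h4 : a⁻¹ ∈ nX x := by
    rw [Subgroup.mem_normalizer_iff]
    intro z
    constructor
    · intro hz
      rw [← h3]
      exact ⟨z, hz, by simp⟩
    · intro hz
      rw [← h3] at hz
      obtain ⟨w, hw, he⟩ := hz
      simp only [MulEquiv.coe_toMonoidHom, MulAut.conj_apply, inv_inv] at he
      have : w = z := by simpa using he
      exact this ▸ hw
  simpa using inv_mem h4

theorem eq_one_of_commute {h y : G} (hh : h ∈ S.H) (hy : y ∈ Subgroup.zpowers x) (hy1 : y ≠ 1)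
    (hc : h * y = y * h) : h = 1 := by
  refine S.eq_one_of_mem hh ?_
  rw [← S.hC, ← Subgroup.centralizer_closure, ← Subgroup.zpowers_eq_closure, ← S.zpowers_eq hy hy1,
    Subgroup.mem_centralizer_iff]
  rintro _ ⟨i, rfl⟩
  exact ((Commute.zpow_right (show Commute h y from hc) i).eq).symm

/-- A nontrivial element of the complement is conjugate to all elements of its coset. -/
theorem exists_conj {h : G} (hh : h ∈ S.H) (hh1 : h ≠ 1) {y : G}
    (hy : y ∈ Subgroup.zpowers x) :
    ∃ z ∈ Subgroup.zpowers x, y * h = z * h * z⁻¹ := by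
  classical
  let F : Subgroup.zpowers x → Subgroup.zpowers x := fun z =>
    ⟨z * (h * (z : G)⁻¹ * h⁻¹), mul_mem z.2
      ((Subgroup.mem_normalizer_iff.1 (S.le hh) _).1 (inv_mem z.2))⟩
  have hinj : Function.Injective F := by
    intro z w hzw
    have h1 : (z : G) * (h * (z : G)⁻¹ * h⁻¹) = (w : G) * (h * (w : G)⁻¹ * h⁻¹) :=
      congrArg Subtype.val hzw
    by_contra hne
    refine hh1 (S.eq_one_of_commute hh (y := (w : G)⁻¹ * z) (mul_mem (inv_mem w.2) z.2) ?_ ?_)
    · intro h0
      exact hne (Subtype.ext (inv_mul_eq_one.1 h0).symm)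
    · calc h * ((w : G)⁻¹ * z) = (w : G)⁻¹ * ((w : G) * (h * (w : G)⁻¹ * h⁻¹)) * h * z := by group
        _ = (w : G)⁻¹ * ((z : G) * (h * (z : G)⁻¹ * h⁻¹)) * h * z := by rw [h1]
        _ = (w : G)⁻¹ * z * h := by group
  obtain ⟨z, hz⟩ := (Finite.injective_iff_surjective.1 hinj) ⟨y, hy⟩
  refine ⟨z, z.2, ?_⟩
  have h1 : (z : G) * (h * (z : G)⁻¹ * h⁻¹) = y := congrArg Subtype.val hz
  rw [← h1]; group

/-- An element of order prime to `p` of the normalizer is conjugate into the complement. -/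
theorem exists_conj_H {g : G} (hg : g ∈ nX x) (hgP : g ∉ Subgroup.zpowers x) :
    ∃ z ∈ Subgroup.zpowers x, ∃ h ∈ S.H, h ≠ 1 ∧ g = z * h * z⁻¹ ∧ (S.proj ⟨g, hg⟩ : G) = h := by
  obtain ⟨y, hy, he⟩ := S.decomp hg
  have h1 : (S.proj ⟨g, hg⟩ : G) ≠ 1 := fun h => hgP ((S.proj_ker ⟨g, hg⟩).1 (Subtype.ext h))
  obtain ⟨z, hz, hze⟩ := S.exists_conj (S.proj ⟨g, hg⟩).2 h1 hy
  exact ⟨z, hz, _, (S.proj ⟨g, hg⟩).2, h1, he.trans hze, rfl⟩

theorem card_normalizer : Nat.card (nX x) = p * e := by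
  have h1 := Subgroup.card_eq_card_quotient_mul_card_subgroup S.proj.ker
  have hsurj : Function.Surjective S.proj := fun h => ⟨⟨h, S.le h.2⟩, S.proj_H h h.2⟩
  rw [Nat.card_congr (QuotientGroup.quotientKerEquivOfSurjective S.proj hsurj).toEquiv,
    S.cardH] at h1
  have hk : S.proj.ker = (Subgroup.zpowers x).subgroupOf (nX x) := by
    ext g
    rw [MonoidHom.mem_ker, S.proj_ker, Subgroup.mem_subgroupOf]
  rw [hk, Nat.card_congr (Subgroup.subgroupOfEquivOfLe zpowers_le).toEquiv, Nat.card_zpowers,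
    S.hx] at h1
  rw [h1, mul_comm]

theorem e_pos : 0 < e := S.cardH ▸ Nat.card_pos

theorem not_dvd : ¬ p ∣ e := fun h => by
  have := hp.out.two_le
  have := Nat.le_of_dvd (by omega) (h.trans S.e_dvd)
  omega

theorem not_dvd_orderOf {h : G} (hh : h ∈ S.H) : ¬ p ∣ orderOf h := fun hd => by
  have h1 := Subgroup.orderOf_dvd_natCard _ hh
  rw [S.cardH] at h1
  exact S.not_dvd (hd.trans h1)

theorem mul_comm_H (a b : S.H) : a * b = b * a := by
  haveI := S.cyclic
  exact mul_comm' a b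

noncomputable instance : Fintype S.H := Fintype.ofFinite _

/-- The average over `⟨x⟩` at the identity, the value elsewhere. -/
noncomputable def cf (f : G → ℂ) : S.H → ℂ := by
  classical
  exact fun h => if h = 1 then (p : ℂ)⁻¹ * ∑ i ∈ Finset.range p, f (x ^ i) else f h

theorem cf_one (f : G → ℂ) : S.cf f 1 = (p : ℂ)⁻¹ * ∑ i ∈ Finset.range p, f (x ^ i) := by
  classical
  rw [cf]; exact if_pos rfl

theorem cf_of_ne (f : G → ℂ) {h : S.H} (hh : h ≠ 1) : S.cf f h = f h := by
  classical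
  rw [cf]; exact if_neg hh

theorem cf_one_of_const {f : G → ℂ} {c : ℂ}
    (hc : ∀ y ∈ Subgroup.zpowers x, y ≠ 1 → f y = c) :
    S.cf f 1 = (p : ℂ)⁻¹ * (f 1 + ((p : ℂ) - 1) * c) := by
  rw [S.cf_one, sum_pow_eq hc S.hx]

/-- The lift of a character of the complement to the normalizer. -/
noncomputable def lift (l : IrrCharacter S.H) : nX x → ℂ := fun g => (l : S.H → ℂ) (S.proj g)

theorem l_one (l : IrrCharacter S.H) : (l : S.H → ℂ) 1 = 1 :=
  irr_apply_one_eq_one S.mul_comm_H l

theorem l_mul (l : IrrCharacter S.H) (a b : S.H) :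
    (l : S.H → ℂ) (a * b) = (l : S.H → ℂ) a * (l : S.H → ℂ) b := by
  obtain ⟨φ, hφ⟩ := Chars.exists_hom_of_degree_one (Chars.irr_isCharacter l) (S.l_one l)
  simp [hφ]

theorem card_irr : Nat.card (IrrCharacter S.H) = e := by
  rw [card_irr_of_comm S.mul_comm_H, S.cardH]

/-- The monomial character attached to a character of the complement. -/
noncomputable def ind (l : IrrCharacter S.H) : G → ℂ := indFun (nX x) (S.lift l)

theorem isCharacter_ind (l : IrrCharacter S.H) : IsCharacter G (S.ind l) :=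
  Chars.isCharacter_indFun _ (Chars.isCharacter_comp (Chars.irr_isCharacter l) S.proj)

theorem ind_one (l : IrrCharacter S.H) : S.ind l 1 = ((nX x).index : ℂ) := by
  rw [ind, Chars.indFun_apply_one, lift, map_one, S.l_one, mul_one]

theorem ind_eq_zero (l : IrrCharacter S.H) {g : G} (hg : ∀ a : G, a⁻¹ * g * a ∉ nX x) :
    S.ind l g = 0 := by
  rw [ind, Chars.indFun_apply, Finset.sum_eq_zero fun a _ =>
    Chars.extendByZero_of_not_mem _ _ (hg a), mul_zero]

theorem mem_zpowers_of_pow {g : G} (hg : g ∈ nX x) (h : g ^ p = 1) :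
    g ∈ Subgroup.zpowers x := by
  refine (S.proj_ker ⟨g, hg⟩).1 ?_
  have h1 : S.proj ⟨g, hg⟩ ^ p = 1 := by
    rw [← map_pow, show (⟨g, hg⟩ : nX x) ^ p = 1 from Subtype.ext h, map_one]
  have h2 := orderOf_dvd_of_pow_eq_one h1
  have h3 := orderOf_dvd_natCard (S.proj ⟨g, hg⟩)
  rw [S.cardH] at h3
  rw [← orderOf_eq_one_iff]
  exact ((Nat.dvd_prime hp.out).1 h2).resolve_right fun h => S.not_dvd (h ▸ h3)

theorem pow_p_of_mem {y : G} (hy : y ∈ Subgroup.zpowers x) : y ^ p = 1 := by
  obtain ⟨i, rfl⟩ := hy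
  show (x ^ i) ^ p = 1
  rw [← zpow_natCast, ← zpow_mul, mul_comm, zpow_mul, zpow_natCast, ← S.hx, pow_orderOf_eq_one,
    one_zpow]

theorem ind_of_mem (l : IrrCharacter S.H) {y : G} (hy : y ∈ Subgroup.zpowers x) (hy1 : y ≠ 1) :
    S.ind l y = 1 := by
  classical
  have hterm : ∀ a : G, extendByZero (nX x) (S.lift l) (a⁻¹ * y * a) =
      if a ∈ nX x then 1 else 0 := by
    intro a
    rw [Chars.extendByZero_eq_ite]
    have hord : (a⁻¹ * y * a) ^ p = 1 := by
      rw [show a⁻¹ * y * a = a⁻¹ * y * (a⁻¹)⁻¹ by rw [inv_inv], conj_pow, S.pow_p_of_mem hy]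
      group
    by_cases ha : a ∈ nX x
    · have hm : a⁻¹ * y * a ∈ Subgroup.zpowers x := by
        have := (Subgroup.mem_normalizer_iff.1 (inv_mem ha) y).1 hy
        rwa [inv_inv] at this
      rw [dif_pos (zpowers_le hm), if_pos ha, lift, S.proj_pow hm, S.l_one]
    · rw [if_neg ha]
      refine dif_neg fun hm => ha (S.mem_of_conj hy hy1 (S.mem_zpowers_of_pow hm hord))
  rw [ind, Chars.indFun_apply, Finset.sum_congr rfl fun a _ => hterm a, ← Finset.sum_filter,
    Finset.sum_const, nsmul_eq_mul, mul_one]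
  rw [show (Finset.univ.filter fun a : G => a ∈ nX x).card = Nat.card (nX x) by
    rw [Nat.card_eq_fintype_card, Fintype.card_subtype]]
  exact inv_mul_cancel₀ (Chars.subgroup_card_ne_zero _)

/-- Frobenius reciprocity through the complement. -/
theorem classInner_ind {f : G → ℂ} (hf : IsClassFunction G f) (l : IrrCharacter S.H) :
    classInner f (S.ind l) = classInner (S.cf f) (l : S.H → ℂ) := by
  classical
  rw [ind, Chars.classInner_indFun_right _ _ hf, Chars.classInner_def, Chars.classInner_def,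
    S.card_normalizer, S.cardH]
  let Φ : Fin p × S.H → nX x := fun a =>
    ⟨x ^ (a.1 : ℕ) * (a.2 : G), mul_mem (zpowers_le (Subgroup.pow_mem _ (Subgroup.mem_zpowers x) _))
      (S.le a.2.2)⟩
  have hΦproj : ∀ a, S.proj (Φ a) = a.2 := fun a => by
    have hy : x ^ (a.1 : ℕ) ∈ Subgroup.zpowers x := Subgroup.pow_mem _ (Subgroup.mem_zpowers x) _
    rw [show Φ a = ⟨_, zpowers_le hy⟩ * ⟨(a.2 : G), S.le a.2.2⟩ from rfl, map_mul, S.proj_pow hy,
      S.proj_H, one_mul]
  have hbij : Function.Bijective Φ := by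
    refine (Fintype.bijective_iff_injective_and_card Φ).2 ⟨fun a b hab => ?_, ?_⟩
    · have h2 : a.2 = b.2 := by rw [← hΦproj a, hab, hΦproj b]
      have h1 : x ^ (a.1 : ℕ) * (a.2 : G) = x ^ (b.1 : ℕ) * (b.2 : G) := congrArg Subtype.val hab
      rw [h2] at h1
      have h3 := mul_right_cancel h1
      refine Prod.ext (Fin.ext ?_) h2
      exact pow_injOn_Iio_orderOf (by rw [S.hx]; exact a.1.2) (by rw [S.hx]; exact b.1.2) h3
    · rw [Fintype.card_prod, Fintype.card_fin, ← Nat.card_eq_fintype_card, S.cardH,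
        ← Nat.card_eq_fintype_card, S.card_normalizer]
  rw [← hbij.sum_comp (fun g : nX x => f g * conj (S.lift l g)), Fintype.sum_prod_type,
    Finset.sum_comm, Nat.cast_mul, mul_inv, mul_comm (p : ℂ)⁻¹, mul_assoc, Finset.mul_sum]
  congr 1
  refine Finset.sum_congr rfl fun h _ => ?_
  simp only [lift, hΦproj]
  rw [← Finset.sum_mul, ← mul_assoc]
  congr 1
  by_cases hh : h = 1
  · subst hh
    rw [S.cf_one, ← Fin.sum_univ_eq_sum_range]
    congr 1
    refine Finset.sum_congr rfl fun i _ => ?_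
    simp [Φ]
  · rw [S.cf_of_ne f hh]
    have hh' : (h : G) ≠ 1 := fun h0 => hh (Subtype.ext h0)
    rw [Finset.sum_congr rfl (g := fun _ : Fin p => f h) fun i _ => ?_, Finset.sum_const,
      Finset.card_univ, Fintype.card_fin, nsmul_eq_mul, ← mul_assoc,
      inv_mul_cancel₀ (Nat.cast_ne_zero.2 hp.out.ne_zero), one_mul]
    obtain ⟨z, -, hz⟩ := S.exists_conj h.2 hh' (Subgroup.pow_mem _ (Subgroup.mem_zpowers x) (i : ℕ))
    show f (x ^ (i : ℕ) * (h : G)) = f h
    rw [hz, hf]

theorem exists_mult {f : G → ℂ} (hf : IsCharacter G f) (l : IrrCharacter S.H) :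
    ∃ k : ℕ, classInner (S.cf f) (l : S.H → ℂ) = k := by
  rw [← S.classInner_ind (Chars.isClassFunction_of_isCharacter hf) l]
  exact Chars.exists_classInner_eq_nat hf (S.isCharacter_ind l)

theorem isClassFunction_H (φ : S.H → ℂ) : IsClassFunction S.H φ := fun g h => by
  rw [S.mul_comm_H h g, mul_inv_cancel_right]

theorem cf_eq_sum (φ : S.H → ℂ) (h : S.H) :
    φ h = ∑ l : IrrCharacter S.H, classInner φ (l : S.H → ℂ) * (l : S.H → ℂ) h := by
  conv_lhs => rw [Chars.eq_sum_classInner (S.isClassFunction_H φ)]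
  simp [Finset.sum_apply]

theorem sum_mult (φ : S.H → ℂ) :
    ∑ l : IrrCharacter S.H, classInner φ (l : S.H → ℂ) = φ 1 := by
  rw [S.cf_eq_sum φ 1]
  simp [S.l_one]

end Split

end Cfsg.Agent.Screen.BrauerP
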